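import Groth.Agent.RefDiv.Dual
import Groth.Agent.QCohBase.Criteria
import Groth.Agent.QCohBase.Finite
import Groth.Agent.ProjUPLib.Gen
import Groth.Agent.FlatOver.Basic

/-!
# `O(D)` is coherent, reflexive and of rank one
-/

set_option autoImplicit false

noncomputable section

universe u

open CategoryTheory Limits AlgebraicGeometry TopologicalSpace Order Opposite
open Groth.Agent.QCohBase

namespace Groth.Agent.RefDiv

variable {X : Scheme.{u}} [IsIntegral X]

theorem functions_ext {U : X.Opens} {r s : Γ(X, U)} {x : X} (hx : x ∈ U)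
    (h : X.presheaf.germ U (genericPoint X) (eta_mem hx) r =
      X.presheaf.germ U (genericPoint X) (eta_mem hx) s) : r = s :=
  have : Nonempty U := ⟨⟨x, hx⟩⟩
  germ_injective_of_isIntegral X _ (eta_mem hx) h

/-- A rational function regular at all points of an open comes from a function on it. -/
theorem exists_function {U : X.Opens} {x₀ : X} (hx₀ : x₀ ∈ U) {c : X.functionField}
    (h : ∀ y ∈ U, c ∈ (algebraMap (X.presheaf.stalk y) X.functionField).range) :
    ∃ r : Γ(X, U), X.presheaf.germ U (genericPoint X) (eta_mem hx₀) r = c := by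
  choose W hW r hr using fun y : U => exists_germ_of_range (h y.1 y.2)
  let V : U → X.Opens := fun y => W y ⊓ U
  let sf : ∀ y : U, Γ(X, V y) := fun y => ores (inf_le_left : V y ≤ W y) (r y)
  have hsf : ∀ (y : U) (T : X.Opens) (hT : T ≤ V y) (t : X) (ht : t ∈ T),
      X.presheaf.germ T (genericPoint X) (eta_mem ht) (ores hT (sf y)) = c := fun y T hT t ht => by
    simp only [sf, ores]
    rw [TopCat.Presheaf.germ_res_apply, TopCat.Presheaf.germ_res_apply]
    exact hr y
  obtain ⟨g, hg, -⟩ := TopCat.Sheaf.existsUnique_gluing' X.sheaf V U (fun y => homOfLE inf_le_right)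
    (fun p hp => Opens.mem_iSup.mpr ⟨⟨p, hp⟩, hW ⟨p, hp⟩, hp⟩) sf (fun a b => by
      have hη : genericPoint X ∈ V a ⊓ V b :=
        ⟨eta_mem ⟨hW a, a.2⟩, eta_mem ⟨hW b, b.2⟩⟩
      refine functions_ext hη ?_
      exact (hsf a _ inf_le_left _ hη).trans (hsf b _ inf_le_right _ hη).symm)
  refine ⟨g, ?_⟩
  have e := hg ⟨x₀, hx₀⟩
  have h2 := hsf ⟨x₀, hx₀⟩ (V ⟨x₀, hx₀⟩) le_rfl x₀ ⟨hW _, hx₀⟩
  rw [← h2]
  simp only [ores]
  rw [TopCat.Presheaf.germ_res_apply]
  refine Eq.trans ?_ (congrArg (X.presheaf.germ (V ⟨x₀, hx₀⟩) (genericPoint X) _) e)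
  exact (TopCat.Presheaf.germ_res_apply X.presheaf _ _ _ g).symm

/-- Finitely many sections of a finite type quasi-coherent module generate the stalk. -/
theorem finite_stalk {M : X.Modules} (hM : Coh.IsCoh M) (x : X) :
    Module.Finite (X.presheaf.stalk x) (M.presheaf.stalk x) := by
  obtain ⟨_, ⟨U, hU, rfl⟩, hxU, -⟩ :=
    X.isBasis_affineOpens.exists_subset_of_mem_open (Set.mem_univ x) isOpen_univ
  obtain ⟨hq, hf⟩ := (QCohBase.isCoh_iff M).mp hM
  have := hf U hU
  obtain ⟨S, hS⟩ := Module.Finite.fg_top (R := Γ(X, U)) (M := Γ(M, U))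
  classical
  refine ⟨⟨S.image (M.presheaf.germ U x hxU), ?_⟩⟩
  rw [eq_top_iff]
  intro v _
  letI := FlatOver.germModule M x hxU
  have hloc := FlatOver.isLocalizedModule_germₗ M hU x hxU
  obtain ⟨⟨s, g⟩, hgs⟩ := hloc.surj v
  have hu : IsUnit (X.presheaf.germ U x hxU g.1) := (AssPts.notMem_prime_iff hU x hxU g.1).1 g.2
  have hgerm : M.presheaf.germ U x hxU s ∈
      Submodule.span (X.presheaf.stalk x) (S.image (M.presheaf.germ U x hxU) : Set _) := by
    have : s ∈ Submodule.span Γ(X, U) (S : Set Γ(M, U)) := hS ▸ Submodule.mem_top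
    clear hgs
    induction this using Submodule.span_induction with
    | mem y hy => exact Submodule.subset_span (Finset.mem_image_of_mem _ hy)
    | zero => rw [map_zero]; exact zero_mem _
    | add a b _ _ ha hb => rw [map_add]; exact add_mem ha hb
    | smul r a _ ha => rw [Mero.germ_smul]; exact Submodule.smul_mem _ _ ha
  obtain ⟨w, hw⟩ := hu
  have : v = (↑w⁻¹ : X.presheaf.stalk x) • M.presheaf.germ U x hxU s := by
    have e : w.1 • v = M.presheaf.germ U x hxU s := by
      rw [hw]; exact hgs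
    rw [← e, ← mul_smul, Units.inv_mul, one_smul]
  rw [this]
  exact Submodule.smul_mem _ _ hgerm

variable [IsLocallyNoetherian X] [Nrm X]

theorem ord_algebraMap_pos {z : X} (hz : coheight z = 1) (a : X.presheaf.stalk z) (ha : a ≠ 0)
    (hnu : ¬ IsUnit a) : 1 ≤ Scheme.ord (algebraMap (X.presheaf.stalk z) X.functionField a) z := by
  have h0 := ord_algebraMap_nonneg a ha (z := z)
  by_contra hlt
  obtain ⟨π, -, -, hu, -⟩ := exists_uniformizer z hz
  have ha' : algebraMap (X.presheaf.stalk z) X.functionField a ≠ 0 := fun h => ha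
    (IsFractionRing.injective _ X.functionField (h.trans (map_zero _).symm))
  obtain ⟨v, hv⟩ := hu _ ha'
  rw [show Scheme.ord (algebraMap (X.presheaf.stalk z) X.functionField a) z = 0 by omega,
    zpow_zero, mul_one] at hv
  exact hnu (IsFractionRing.injective _ X.functionField hv ▸ v.isUnit)

variable {D : X → ℤ}

theorem finite_bad (hD : LocFin D) {U : X.Opens} (hU : IsAffineOpen U) :
    {z : X | z ∈ U ∧ coheight z = 1 ∧ D z ≠ 0}.Finite := by
  choose W hW hfin using hD
  obtain ⟨t, ht⟩ := hU.isCompact.elim_finite_subcover (fun y : X => (W y : Set X))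
    (fun y => (W y).isOpen) fun y _ => Set.mem_iUnion.mpr ⟨y, hW y⟩
  refine Set.Finite.subset (t.finite_toSet.biUnion fun y _ => hfin y) ?_
  rintro z ⟨hzU, hz⟩
  obtain ⟨y, hy, hzy⟩ := Set.mem_iUnion₂.mp (ht hzU)
  exact Set.mem_biUnion hy ⟨hzy, hz⟩

omit [Nrm X] in
/-- A nonzero function on an affine open vanishing at a given codimension one point. -/
theorem exists_vanishing {U : X.Opens} (hU : IsAffineOpen U) {z : X} (hzU : z ∈ U)
    (hz : coheight z = 1) : ∃ a : Γ(X, U), a ≠ 0 ∧ ¬ IsUnit (X.presheaf.germ U z hzU a) := by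
  have hne : (hU.primeIdealOf ⟨z, hzU⟩).asIdeal ≠ ⊥ := fun h => by
    letI : Algebra Γ(X, U) (X.presheaf.stalk z) := TopCat.Presheaf.algebra_section_stalk X.presheaf ⟨z, hzU⟩
    have : IsLocalization.AtPrime (X.presheaf.stalk z) (hU.primeIdealOf ⟨z, hzU⟩).asIdeal :=
      hU.isLocalization_stalk ⟨z, hzU⟩
    have hdim := IsLocalization.AtPrime.ringKrullDim_eq_height
      (hU.primeIdealOf ⟨z, hzU⟩).asIdeal (X.presheaf.stalk z)
    have : Nonempty U := ⟨⟨z, hzU⟩⟩
    rw [ringKrullDim_stalk_eq_coheight, hz, h, Ideal.height_bot] at hdim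
    exact one_ne_zero (WithBot.coe_eq_coe.mp hdim)
  obtain ⟨a, ha, ha0⟩ := Submodule.exists_mem_ne_zero_of_ne_bot hne
  exact ⟨a, ha0, fun h => (AssPts.notMem_prime_iff hU z hzU a).2 h ha⟩

theorem mres_val {U V : X.Opens} (h : V ≤ U) (s : Γ(OD D, U)) (y : V) :
    (mres (OD D) h s).1 y = s.1 ⟨y.1, h y.2⟩ := rfl

theorem smul_val {U : X.Opens} (r : Γ(X, U)) (s : Γ(OD D, U)) (y : U) :
    (r • s).1 y = X.presheaf.germ U (genericPoint X) (eta_mem y.2) r * s.1 y := by
  change X.presheaf.germ U y.1 y.2 r • s.1 y = _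
  rw [Algebra.smul_def, algebraMap_germ]

theorem localizesOn_OD (hD : LocFin D) {U : X.Opens} (hU : IsAffineOpen U) :
    LocalizesOn (OD D) U := by
  intro f
  refine ⟨fun x => ?_, fun y hy => ?_⟩
  · by_cases hB : ∃ p, p ∈ X.basicOpen f
    · obtain ⟨p, hp⟩ := hB
      let c := x.1 ⟨p, hp⟩
      let F := X.presheaf.germ U (genericPoint X) (eta_mem (X.basicOpen_le f hp)) f
      have hfin := (finite_bad hD hU).union (finite_bad (locFin_ord c) hU)
      obtain ⟨n, hn⟩ := (hfin.image fun z => (-(Scheme.ord c z + D z)).toNat).bddAbove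
      have hf0 : F ≠ 0 := by
        intro h0
        have : f = 0 := functions_ext (X.basicOpen_le f hp) (h0.trans (map_zero _).symm)
        rw [this, Scheme.basicOpen_zero] at hp
        exact hp
      have hmem : ∀ z ∈ U, Mem D z (F ^ n * c) := by
        intro z hzU hz
        by_cases hc : c = 0
        · exact Or.inl (by rw [hc, mul_zero])
        refine Or.inr ?_
        have hgz : F = algebraMap (X.presheaf.stalk z) X.functionField (X.presheaf.germ U z hzU f) :=
          (algebraMap_germ z hzU f).symm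
        have hgz0 : X.presheaf.germ U z hzU f ≠ 0 := fun h => hf0 (by rw [hgz, h, map_zero])
        have hFn : 0 ≤ Scheme.ord (F ^ n) z := by
          rw [hgz, ← map_pow]; exact ord_algebraMap_nonneg _ (pow_ne_zero _ hgz0)
        rw [Scheme.ord_mul (pow_ne_zero _ hf0) hc]
        by_cases hzB : z ∈ X.basicOpen f
        · rcases sec_mem D x ⟨z, hzB⟩ hz with h | h
          · exact absurd ((sec_const D x ⟨p, hp⟩ ⟨z, hzB⟩).trans h) hc
          · rw [← sec_const D x ⟨p, hp⟩ ⟨z, hzB⟩] at h
            change -D z ≤ Scheme.ord c z at h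
            omega
        by_cases h0 : D z = 0 ∧ Scheme.ord c z = 0
        · omega
        have hzS : z ∈ {z : X | z ∈ U ∧ coheight z = 1 ∧ D z ≠ 0} ∪
            {z : X | z ∈ U ∧ coheight z = 1 ∧ Scheme.ord c z ≠ 0} := by
          rcases not_and_or.mp h0 with h | h
          · exact Or.inl ⟨hzU, hz, h⟩
          · exact Or.inr ⟨hzU, hz, h⟩
        have hle := hn (Set.mem_image_of_mem (fun z => (-(Scheme.ord c z + D z)).toNat) hzS)
        have h1 : 1 ≤ Scheme.ord F z := hgz ▸ ord_algebraMap_pos hz _ hgz0 fun hu =>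
          hzB ((Scheme.mem_basicOpen X f z hzU).mpr hu)
        have hpow : ∀ m : ℕ, Scheme.ord (F ^ m) z = m * Scheme.ord F z := by
          intro m
          induction m with
          | zero => simpa using ord_one z
          | succ m ih => rw [pow_succ, Scheme.ord_mul (pow_ne_zero _ hf0) hf0, ih]; push_cast; ring
        rw [hpow]
        have : (n : ℤ) ≤ n * Scheme.ord F z := le_mul_of_one_le_right (Int.natCast_nonneg n) h1
        have h3 : -(Scheme.ord c z + D z) ≤ (n : ℤ) := le_trans (Int.self_le_toNat _) (by exact_mod_cast hle)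
        omega
      refine ⟨n, sec D (F ^ n * c) hmem, Subtype.ext (funext fun q => ?_)⟩
      rw [mres_val, smul_val, map_pow, show x.1 q = c from sec_const D x q ⟨p, hp⟩]
      simp only [ores]
      rw [TopCat.Presheaf.germ_res_apply]
      rfl
    · exact ⟨0, 0, Subtype.ext (funext fun q => absurd ⟨q.1, q.2⟩ hB)⟩
  · by_cases hB : ∃ p, p ∈ X.basicOpen f
    · obtain ⟨p, hp⟩ := hB
      refine ⟨0, ?_⟩
      rw [pow_zero, one_smul]
      refine Subtype.ext (funext fun q => ?_)
      refine (sec_const D y q ⟨p, X.basicOpen_le f hp⟩).trans ?_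
      exact congrArg (fun t : Γ(OD D, X.basicOpen f) => t.1 ⟨p, hp⟩) hy
    · refine ⟨1, Subtype.ext (funext fun q => ?_)⟩
      rw [smul_val, pow_one]
      have h0 : f = 0 := basicOpen_eq_bot_iff f |>.mp (Opens.ext (Set.ext fun p =>
        ⟨fun hp => absurd ⟨p, hp⟩ hB, fun hp => hp.elim⟩))
      rw [h0, map_zero, zero_mul]
      rfl

theorem finite_sections_OD (hD : LocFin D) {U : X.Opens} (hU : IsAffineOpen U) :
    Module.Finite Γ(X, U) Γ(OD D, U) := by
  by_cases hne : ∃ p, p ∈ U
  swap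
  · have : Subsingleton Γ(OD D, U) :=
      ⟨fun a b => Subtype.ext (funext fun q => absurd ⟨q.1, q.2⟩ hne)⟩
    infer_instance
  obtain ⟨p, hp⟩ := hne
  have : IsNoetherianRing Γ(X, U) := IsLocallyNoetherian.component_noetherian ⟨U, hU⟩
  have hfin := finite_bad hD hU
  classical
  choose a ha0 hanu using fun z : hfin.toFinset =>
    exists_vanishing hU ((hfin.mem_toFinset.mp z.2).1) (hfin.mem_toFinset.mp z.2).2.1
  let germη : Γ(X, U) →+* X.functionField := (X.presheaf.germ U (genericPoint X) (eta_mem hp)).hom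
  let β : X.functionField := ∏ z : hfin.toFinset, germη (a z) ^ (D z.1).toNat
  have hane : ∀ z, germη (a z) ≠ 0 := fun z h =>
    ha0 z (functions_ext hp (h.trans (map_zero germη).symm))
  have hβ : β ≠ 0 := Finset.prod_ne_zero_iff.mpr fun z _ => pow_ne_zero _ (hane z)
  have hβord : ∀ y ∈ U, coheight y = 1 → D y ≤ Scheme.ord β y := by
    intro y hy hy1
    have hz : ∀ z : hfin.toFinset, 0 ≤ Scheme.ord (germη (a z)) y ∧
        (y = z.1 → 1 ≤ Scheme.ord (germη (a z)) y) := fun z => by
      have e : germη (a z) = algebraMap (X.presheaf.stalk y) X.functionField (X.presheaf.germ U y hy (a z)) :=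
        (algebraMap_germ y hy (a z)).symm
      have hne0 : X.presheaf.germ U y hy (a z) ≠ 0 := fun h => hane z (by rw [e, h, map_zero])
      refine ⟨e ▸ ord_algebraMap_nonneg _ hne0, fun hyz => ?_⟩
      subst hyz
      exact e ▸ ord_algebraMap_pos hy1 _ hne0 (hanu z)
    have hprod : ∀ s : Finset hfin.toFinset, Scheme.ord (∏ z ∈ s, germη (a z) ^ (D z.1).toNat) y =
        ∑ z ∈ s, ((D z.1).toNat : ℤ) * Scheme.ord (germη (a z)) y := by
      intro s
      induction s using Finset.induction_on with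
      | empty => simpa using ord_one y
      | insert w s hw ih =>
        rw [Finset.prod_insert hw, Finset.sum_insert hw, Scheme.ord_mul (pow_ne_zero _ (hane w))
          (Finset.prod_ne_zero_iff.mpr fun z _ => pow_ne_zero _ (hane z)), ih]
        congr 1
        generalize (D w.1).toNat = m
        induction m with
        | zero => simpa using ord_one y
        | succ m ihm =>
          rw [pow_succ, Scheme.ord_mul (pow_ne_zero _ (hane w)) (hane w), ihm]; push_cast; ring
    rw [hprod]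
    by_cases hDy : D y = 0
    · rw [hDy]
      exact Finset.sum_nonneg fun z _ => mul_nonneg (Int.natCast_nonneg _) (hz z).1
    refine le_trans ?_ (Finset.single_le_sum (fun z _ => mul_nonneg (Int.natCast_nonneg _) (hz z).1)
      (Finset.mem_univ ⟨y, hfin.mem_toFinset.mpr ⟨hy, hy1, hDy⟩⟩))
    exact le_trans (Int.self_le_toNat _) (le_mul_of_one_le_right (Int.natCast_nonneg _) ((hz _).2 rfl))
  have hreg : ∀ s : Γ(OD D, U), ∃ r : Γ(X, U), germη r = β * s.1 ⟨p, hp⟩ := fun s =>
    exists_function hp fun y hy => mem_range_of_codim_one y _ fun z hzy hz => by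
      have hzU : z ∈ U := hzy.mem_open U.isOpen hy
      rw [sec_const D s ⟨p, hp⟩ ⟨z, hzU⟩]
      by_cases h0 : s.1 ⟨z, hzU⟩ = 0
      · rw [h0, mul_zero]; exact zero_mem _
      rw [mem_range_iff hz (mul_ne_zero hβ h0), Scheme.ord_mul hβ h0]
      have := hβord z hzU hz
      rcases sec_mem D s ⟨z, hzU⟩ hz with h | h
      · exact absurd h h0
      · change -D z ≤ Scheme.ord (s.1 ⟨z, hzU⟩) z at h
        omega
  choose r hr using hreg
  have hinj : ∀ a b : Γ(X, U), germη a = germη b → a = b := fun a b h => functions_ext hp h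
  let L : Γ(OD D, U) →ₗ[Γ(X, U)] Γ(X, U) :=
    { toFun := r
      map_add' := fun s t => hinj _ _ (by rw [map_add, hr, hr, hr, ← mul_add]; rfl)
      map_smul' := fun b s => hinj _ _ (by
        rw [RingHom.id_apply, smul_eq_mul, map_mul, hr, hr, smul_val]; ring) }
  refine Module.Finite.of_injective L fun s t hst => Subtype.ext (funext fun q => ?_)
  rw [sec_const D s q ⟨p, hp⟩, sec_const D t q ⟨p, hp⟩]
  have := congrArg germη hst
  change germη (r s) = germη (r t) at this
  rw [hr, hr] at this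
  exact mul_left_cancel₀ hβ this

theorem isCoh_OD (hD : LocFin D) : Coh.IsCoh (OD D) :=
  (QCohBase.isCoh_iff _).mpr ⟨QCohBase.isQuasicoherent_of_forall_localizesOn fun _ hU => localizesOn_OD hD hU,
    fun _ hU => finite_sections_OD hD hU⟩

/-- A dense open where `D` vanishes. -/
theorem exists_open_vanish (hD : LocFin D) :
    ∃ U₀ : X.Opens, genericPoint X ∈ U₀ ∧ ∀ z ∈ U₀, coheight z = 1 → D z = 0 := by
  obtain ⟨U, hU, hfin⟩ := hD (genericPoint X)
  let C : Set X := ⋃ z ∈ {z : X | z ∈ U ∧ coheight z = 1 ∧ D z ≠ 0}, closure {z}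
  have hC : IsClosed C := hfin.isClosed_biUnion fun _ _ => isClosed_closure
  refine ⟨U ⊓ ⟨Cᶜ, hC.isOpen_compl⟩, ⟨hU, fun h => ?_⟩, fun z hz hz1 => ?_⟩
  · simp only [C, Set.mem_iUnion] at h
    obtain ⟨z, ⟨-, hz, -⟩, hzc⟩ := h
    have := ((specializes_iff_mem_closure.mpr hzc).antisymm (eta_spec z)).eq
    subst this
    simp [show coheight (genericPoint X) = 0 from coheight_eq_zero.mpr fun y _ => eta_spec y] at hz
  · by_contra hne
    exact hz.2 (Set.mem_biUnion (show z ∈ {z : X | z ∈ U ∧ coheight z = 1 ∧ D z ≠ 0} from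
      ⟨hz.1, hz1, hne⟩) (subset_closure rfl))

theorem bijective_one {U₀ : X.Opens} (h0 : ∀ z ∈ U₀, coheight z = 1 → D z = 0) {W : X.Opens}
    (hW : W ≤ U₀) (one : Γ(OD D, W)) (hone : ∀ q, one.1 q = 1) :
    Function.Bijective fun r : Γ(X, W) => r • one := by
  by_cases hne : ∃ p, p ∈ W
  · obtain ⟨p, hp⟩ := hne
    refine ⟨fun a b h => functions_ext hp ?_, fun s => ?_⟩
    · have := congrArg (fun t : Γ(OD D, W) => t.1 ⟨p, hp⟩) h
      simpa [smul_val, hone] using this
    · obtain ⟨r, hr⟩ := exists_function hp (c := s.1 ⟨p, hp⟩) fun y hy =>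
        mem_range_of_codim_one y _ fun z hzy hz => by
          have hzW : z ∈ W := hzy.mem_open W.isOpen hy
          rw [sec_const D s ⟨p, hp⟩ ⟨z, hzW⟩]
          by_cases h : s.1 ⟨z, hzW⟩ = 0
          · rw [h]; exact zero_mem _
          rw [mem_range_iff hz h]
          rcases sec_mem D s ⟨z, hzW⟩ hz with h1 | h1
          · exact absurd h1 h
          · change -D z ≤ Scheme.ord (s.1 ⟨z, hzW⟩) z at h1
            have := h0 z (hW hzW) hz
            omega
      refine ⟨r, Subtype.ext (funext fun q => ?_)⟩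
      change (r • one).1 q = s.1 q
      rw [smul_val, hone, mul_one, sec_const D s q ⟨p, hp⟩, ← hr]
  · refine ⟨fun a b _ => ?_, fun s => ⟨0, Subtype.ext (funext fun q => absurd ⟨q.1, q.2⟩ hne)⟩⟩
    have hW0 : W = ⊥ := Opens.ext (Set.ext fun p => ⟨fun hp => absurd ⟨p, hp⟩ hne, fun hp => hp.elim⟩)
    subst hW0
    exact Subsingleton.elim a b

theorem genInvertible_OD (hD : LocFin D) : RefHull.GenInvertible (OD D) := by
  obtain ⟨U₀, hη, h0⟩ := exists_open_vanish hD
  refine ⟨U₀, ((genericPoint_spec X).mem_open_set_iff U₀.isOpen |>.mp hη |> fun _ =>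
    U₀.isOpen.dense ⟨_, hη⟩), ?_⟩
  refine ProjUPLib.isInvertible_of_frames fun x => ⟨⊤, trivial, ?_⟩
  refine ⟨((OD D).restrictAppIso U₀.ι ⊤).inv (sec D 1 fun z hz hz1 => Or.inr (by
    rw [h0 z (U₀.ι_image_top.le hz) hz1, ord_one]; simp)), fun V hV => ?_⟩
  have hb := bijective_one h0 ((U₀.ι.image_le_opensRange V).trans_eq U₀.opensRange_ι)
    (sec D 1 (U := U₀.ι ''ᵁ V) fun z hz hz1 => Or.inr (by
      rw [h0 z ((U₀.ι.image_le_opensRange V).trans_eq U₀.opensRange_ι hz) hz1, ord_one]; simp))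
    fun _ => rfl
  let a := ((OD D).restrictAppIso U₀.ι ⊤).inv (sec D 1 fun z hz hz1 => Or.inr (by
    rw [h0 z (U₀.ι_image_top.le hz) hz1, ord_one]; simp))
  have e : (fun r : Γ(U₀.toScheme, V) => r •
      mres ((OD D).restrict U₀.ι) hV (mres ((OD D).restrict U₀.ι) (le_top : (⊤ : U₀.toScheme.Opens) ≤ ⊤) a)) =
      fun r => ((OD D).restrictAppIso U₀.ι V).inv
        ((show Γ(X, U₀.ι ''ᵁ V) from r) • sec D 1 (U := U₀.ι ''ᵁ V) fun z hz hz1 => Or.inr (by
          rw [h0 z ((U₀.ι.image_le_opensRange V).trans_eq U₀.opensRange_ι hz) hz1, ord_one]; simp)) :=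
    funext fun r => by
      rw [Scheme.Modules.smul_restrictAppIso_inv_apply, Scheme.Opens.ι_appIso]
      rfl
  change Function.Bijective _
  rw [e]
  exact ((ConcreteCategory.isIso_iff_bijective ((OD D).restrictAppIso U₀.ι V).inv).mp inferInstance).comp hb

theorem isRef1_OD (hD : LocFin D) : RefHull.IsRef1 (OD D) :=
  ⟨isCoh_OD hD, isReflexive_OD hD, genInvertible_OD hD⟩

end Groth.Agent.RefDiv
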