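import Groth.Agent.RefDiv.Tensor
import Groth.Prelude.Def_PicF2

/-!
# Divisor classes and isomorphism classes of rank one reflexive modules
-/

set_option autoImplicit false

noncomputable section

universe u

open CategoryTheory Limits AlgebraicGeometry TopologicalSpace Order

namespace Groth.Agent.RefDiv

theorem cl_eq_iff {X : Scheme.{u}} {F G : X.Modules} : PicF.cl F = PicF.cl G ↔ Nonempty (F ≅ G) := by
  refine ⟨fun h => ?_, fun h => Quot.sound h⟩
  have hr : Equivalence fun L L' : X.Modules => Nonempty (L ≅ L') :=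
    ⟨fun L => ⟨Iso.refl L⟩, fun ⟨e⟩ => ⟨e.symm⟩, fun ⟨e⟩ ⟨e'⟩ => ⟨e ≪≫ e'⟩⟩
  exact hr.eqvGen_iff.mp (Quot.eqvGen_exact h)

variable {X : Scheme.{u}} [IsIntegral X] [IsLocallyNoetherian X] [Nrm X]

theorem exists_class {F : X.Modules} (hF : RefHull.IsRef1 F) :
    ∃ (D : X → ℤ) (φ : Fnl F), LocFin D ∧ Good φ D ∧ Nonempty (F ≅ OD D) := by
  obtain ⟨s, hs⟩ := exists_sec hF.2.2
  obtain ⟨D, φ, hD, -, hg, hiso, -⟩ := ref1_structure hF s hs
  exact ⟨D, φ, hD, hg, hiso⟩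

theorem nonempty_structureIso : Nonempty (Coh.structureModule X ≅ OD (0 : X → ℤ)) := by
  have hmem : ∀ z, coheight z = 1 → ∀ v : (Coh.structureModule X).presheaf.stalk z,
      Mem (0 : X → ℤ) z (valAt fnlO z v) := fun z hz v _ => by
    by_cases h : oK z v = 0
    · exact Or.inl h
    · exact Or.inr (by
        have := (mem_range_iff hz h).mp (oK_mem_range z v)
        simpa using this)
  have := isIso_of_valAt (0 : X → ℤ) (mkHom 0 fnlO hmem) fnlO (evK_mkHom 0 _ _) oK_injective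
    fun x c hc => exists_oK (mem_range_of_codim_one x c fun z hzx hz => by
      by_cases h : c = 0
      · rw [h]; exact zero_mem _
      rcases hc z hzx hz hz with h' | h'
      · exact absurd h' h
      · exact (mem_range_iff hz h).mpr (by simpa using h'))
  exact ⟨asIso (mkHom 0 fnlO hmem)⟩

theorem iso_add {D D' E E' : X → ℤ} (hD : LocFin D) (hD' : LocFin D') (hE : LocFin E) (hE' : LocFin E')
    (i : OD D ≅ OD D') (j : OD E ≅ OD E') : Nonempty (OD (D + E) ≅ OD (D' + E')) := by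
  obtain ⟨f, hf, h1⟩ := linEquiv_of_iso hD hD' i
  obtain ⟨g, hg, h2⟩ := linEquiv_of_iso hE hE' j
  refine iso_of_linEquiv (hD.add hE) (hD'.add hE') (mul_ne_zero hf hg) fun z hz => ?_
  rw [Scheme.ord_mul hf hg, Pi.add_apply, Pi.add_apply, h1 z hz, h2 z hz]
  ring

theorem iso_neg {D D' : X → ℤ} (hD : LocFin D) (hD' : LocFin D') (i : OD D ≅ OD D') :
    Nonempty (OD (-D) ≅ OD (-D')) := by
  obtain ⟨f, hf, h1⟩ := linEquiv_of_iso hD hD' i
  refine iso_of_linEquiv hD.neg hD'.neg (inv_ne_zero hf) fun z hz => ?_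
  rw [Pi.neg_apply, Pi.neg_apply, h1 z hz, ord_inv z hf]
  ring

variable (X) in
/-- Isomorphism classes of rank one reflexive modules. -/
abbrev Ref1Cl : Type (u + 1) := {c : PicF.Cl X // ∃ F : X.Modules, PicF.cl F = c ∧ RefHull.IsRef1 F}

theorem exists_divisor (a : Ref1Cl X) : ∃ D : X → ℤ, LocFin D ∧ a.1 = PicF.cl (OD D) := by
  obtain ⟨F, hF, hF'⟩ := a.2
  obtain ⟨D, -, hD, -, hiso⟩ := exists_class hF'
  exact ⟨D, hD, hF.symm.trans (cl_eq_iff.mpr hiso)⟩

/-- The class of a divisor. -/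
def ofDiv (D : X → ℤ) (hD : LocFin D) : Ref1Cl X := ⟨PicF.cl (OD D), OD D, rfl, isRef1_OD hD⟩

/-- The product of classes. -/
def clMul (a b : Ref1Cl X) : Ref1Cl X :=
  ofDiv ((exists_divisor a).choose + (exists_divisor b).choose)
    ((exists_divisor a).choose_spec.1.add (exists_divisor b).choose_spec.1)

/-- The inverse of a class. -/
def clInv (a : Ref1Cl X) : Ref1Cl X :=
  ofDiv (-(exists_divisor a).choose) (exists_divisor a).choose_spec.1.neg

theorem clMul_spec (a b : Ref1Cl X) {D E : X → ℤ} (hD : LocFin D) (hE : LocFin E)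
    (ha : a.1 = PicF.cl (OD D)) (hb : b.1 = PicF.cl (OD E)) :
    (clMul a b).1 = PicF.cl (OD (D + E)) := by
  obtain ⟨h1, h1'⟩ := (exists_divisor a).choose_spec
  obtain ⟨h2, h2'⟩ := (exists_divisor b).choose_spec
  obtain ⟨i⟩ := cl_eq_iff.mp (h1'.symm.trans ha)
  obtain ⟨j⟩ := cl_eq_iff.mp (h2'.symm.trans hb)
  exact cl_eq_iff.mpr (iso_add h1 hD h2 hE i j)

theorem clInv_spec (a : Ref1Cl X) {D : X → ℤ} (hD : LocFin D) (ha : a.1 = PicF.cl (OD D)) :
    (clInv a).1 = PicF.cl (OD (-D)) := by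
  obtain ⟨h1, h1'⟩ := (exists_divisor a).choose_spec
  obtain ⟨i⟩ := cl_eq_iff.mp (h1'.symm.trans ha)
  exact cl_eq_iff.mpr (iso_neg h1 hD i)

theorem group_law :
    ∃ (mul : Ref1Cl X → Ref1Cl X → Ref1Cl X) (one : Ref1Cl X) (inv : Ref1Cl X → Ref1Cl X),
      (∀ a b, mul a b = mul b a) ∧ (∀ a b c, mul (mul a b) c = mul a (mul b c)) ∧
        (∀ a, mul one a = a) ∧ (∀ a, mul (inv a) a = one) ∧
        (∀ (F G : X.Modules) (hF : RefHull.IsRef1 F) (hG : RefHull.IsRef1 G),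
          (mul ⟨PicF.cl F, F, rfl, hF⟩ ⟨PicF.cl G, G, rfl, hG⟩).1 =
            PicF.cl (RefHull.ddual (CohB1.tensorMod F G))) ∧
        one.1 = PicF.cl (Coh.structureModule X) ∧
        (∀ (F : X.Modules) (hF : RefHull.IsRef1 F),
          (inv ⟨PicF.cl F, F, rfl, hF⟩).1 = PicF.cl (RefHull.dual F)) := by
  refine ⟨clMul, ofDiv 0 locFin_zero, clInv, ?_, ?_, ?_, ?_, ?_, ?_, ?_⟩
  · intro a b
    obtain ⟨D, hD, ha⟩ := exists_divisor a
    obtain ⟨E, hE, hb⟩ := exists_divisor b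
    exact Subtype.ext ((clMul_spec a b hD hE ha hb).trans
      ((clMul_spec b a hE hD hb ha).trans (by rw [add_comm])).symm)
  · intro a b c
    obtain ⟨D, hD, ha⟩ := exists_divisor a
    obtain ⟨E, hE, hb⟩ := exists_divisor b
    obtain ⟨G, hG, hc⟩ := exists_divisor c
    refine Subtype.ext ((clMul_spec _ c (hD.add hE) hG (clMul_spec a b hD hE ha hb) hc).trans ?_)
    rw [clMul_spec a _ hD (hE.add hG) ha (clMul_spec b c hE hG hb hc), add_assoc]
  · intro a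
    obtain ⟨D, hD, ha⟩ := exists_divisor a
    refine Subtype.ext ((clMul_spec _ a locFin_zero hD rfl ha).trans ?_)
    rw [zero_add]; exact ha.symm
  · intro a
    obtain ⟨D, hD, ha⟩ := exists_divisor a
    refine Subtype.ext ((clMul_spec _ a hD.neg hD (clInv_spec a hD ha) ha).trans ?_)
    rw [neg_add_cancel]; rfl
  · intro F G hF hG
    obtain ⟨D, φ, hD, hφ, hi⟩ := exists_class hF
    obtain ⟨E, ψ, hE, hψ, hj⟩ := exists_class hG
    exact (clMul_spec _ _ hD hE (cl_eq_iff.mpr hi) (cl_eq_iff.mpr hj)).trans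
      (cl_eq_iff.mpr (nonempty_refTensorIso hφ hψ hD hE hF.2.2 hG.2.2)).symm
  · exact (cl_eq_iff.mpr nonempty_structureIso).symm
  · intro F hF
    obtain ⟨D, φ, hD, hφ, hi⟩ := exists_class hF
    exact (clInv_spec _ hD (cl_eq_iff.mpr hi)).trans (cl_eq_iff.mpr (nonempty_dualIso hφ hD)).symm

theorem iso_iff (F G : X.Modules) (hF : RefHull.IsRef1 F) (hG : RefHull.IsRef1 G)
    (s : Cyc.secFibre F (genericPoint X)) (hs : s ≠ 0) (t : Cyc.secFibre G (genericPoint X)) (ht : t ≠ 0) :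
    Nonempty (F ≅ G) ↔ ∃ f : X.functionField, f ≠ 0 ∧ ∀ (z : X), coheight z = 1 →
      Cyc.secOrdAt F (genericPoint X) z (eta_spec z) s =
        Cyc.secOrdAt G (genericPoint X) z (eta_spec z) t + Scheme.ord f z := by
  obtain ⟨D, φ, hD, -, -, ⟨i⟩, hs'⟩ := ref1_structure hF s hs
  obtain ⟨E, ψ, hE, -, -, ⟨j⟩, ht'⟩ := ref1_structure hG t ht
  constructor
  · rintro ⟨e⟩
    obtain ⟨f, hf, h⟩ := linEquiv_of_iso hD hE (i.symm ≪≫ e ≪≫ j)
    exact ⟨f, hf, fun z hz => by rw [hs' z hz, ht' z hz, h z hz]⟩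
  · rintro ⟨f, hf, h⟩
    obtain ⟨k⟩ := iso_of_linEquiv hD hE hf fun z hz => by
      rw [← hs' z hz, ← ht' z hz]; exact h z hz
    exact ⟨i ≪≫ k ≪≫ j.symm⟩

theorem exists_cycle (F : X.Modules) (hF : RefHull.IsRef1 F) (s : Cyc.secFibre F (genericPoint X))
    (hs : s ≠ 0) :
    ∃ D : AlgebraicCycle X ℤ, (∀ z : X, coheight z ≠ 1 → D z = 0) ∧
      ∀ (z : X), coheight z = 1 → D z = Cyc.secOrdAt F (genericPoint X) z (eta_spec z) s := by
  obtain ⟨D, φ, hD, hD0, -, -, hs'⟩ := ref1_structure hF s hs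
  refine ⟨⟨D, fun _ _ => trivial, fun z _ => ?_⟩, hD0, fun z hz => (hs' z hz).symm⟩
  obtain ⟨U, hzU, hfin⟩ := hD z
  refine ⟨U, U.isOpen.mem_nhds hzU, hfin.subset fun w hw => ⟨hw.1, ?_, hw.2⟩⟩
  by_contra h
  exact hw.2 (hD0 w h)

theorem exists_realisation (D : AlgebraicCycle X ℤ) :
    ∃ (F : X.Modules) (_ : RefHull.IsRef1 F) (s : Cyc.secFibre F (genericPoint X)), s ≠ 0 ∧
      ∀ (z : X), coheight z = 1 → D z = Cyc.secOrdAt F (genericPoint X) z (eta_spec z) s := by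
  have hD : LocFin (⇑D) := fun z => by
    obtain ⟨T, hT, hfin⟩ := D.supportLocallyFiniteWithinDomain' z trivial
    obtain ⟨U, hUT, hU, hzU⟩ := mem_nhds_iff.mp hT
    exact ⟨⟨U, hU⟩, hzU, hfin.subset fun w hw => ⟨hUT hw.1, hw.2.2⟩⟩
  obtain ⟨v, hv⟩ := (fnlOD_good hD).bij.2 1
  have hv0 : v ≠ 0 := fun h => by rw [h, map_zero] at hv; exact zero_ne_one hv
  refine ⟨OD ⇑D, isRef1_OD hD, Submodule.Quotient.mk v,
    fun h => hv0 ((secFibre_bijective _).1 h), fun z hz => ?_⟩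
  rw [secOrdAt_eq (fnlOD_good hD) hz (fun a b hab => evK_injective _ z (by
    rwa [valAt_fnlOD, valAt_fnlOD] at hab)) v hv0, hv, ord_one, add_zero]

theorem exists_sec_add (F G : X.Modules) (hF : RefHull.IsRef1 F) (hG : RefHull.IsRef1 G)
    (s : Cyc.secFibre F (genericPoint X)) (hs : s ≠ 0) (t : Cyc.secFibre G (genericPoint X)) (ht : t ≠ 0) :
    ∃ w : Cyc.secFibre (RefHull.ddual (CohB1.tensorMod F G)) (genericPoint X), w ≠ 0 ∧
      ∀ (z : X), coheight z = 1 →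
        Cyc.secOrdAt (RefHull.ddual (CohB1.tensorMod F G)) (genericPoint X) z (eta_spec z) w =
          Cyc.secOrdAt F (genericPoint X) z (eta_spec z) s +
            Cyc.secOrdAt G (genericPoint X) z (eta_spec z) t := by
  obtain ⟨D, φ, hD, -, hφ, -, hs'⟩ := ref1_structure hF s hs
  obtain ⟨E, ψ, hE, -, hψ, -, ht'⟩ := ref1_structure hG t ht
  have hg := mulFnl_good hφ hψ hF.2.2 hG.2.2
  obtain ⟨v, hv⟩ := (ddualFnl_good hg (hD.add hE)).bij.2 1
  have hv0 : v ≠ 0 := fun h => by rw [h, map_zero] at hv; exact zero_ne_one hv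
  refine ⟨Submodule.Quotient.mk v, fun h => hv0 ((secFibre_bijective _).1 h), fun z hz => ?_⟩
  rw [secOrdAt_eq (ddualFnl_good hg (hD.add hE)) hz (dualFnl_injective _ z) v hv0, hv, ord_one,
    add_zero, hs' z hz, ht' z hz, Pi.add_apply]

end Groth.Agent.RefDiv
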