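import Groth.Agent.RefDiv.Coh
import Groth.Prelude.Def_C1

/-!
# Rank one reflexive modules are divisorial sheaves; orders of rational sections
-/

set_option autoImplicit false

noncomputable section

universe u

open CategoryTheory Limits AlgebraicGeometry TopologicalSpace Order Opposite
open Groth.Agent.QCohBase

namespace Groth.Agent.RefDiv

variable {X : Scheme.{u}}

/-- A trivialisation along an open immersion gives a frame on its range. -/
theorem exists_frame_of_triv {Y : Scheme.{u}} (j : Y ⟶ X) [IsOpenImmersion j] {L : X.Modules}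
    (t : L.restrict j ≅ Coh.structureModule Y) : ∃ e : Γ(L, j.opensRange), GenLocus.IsFrame L e := by
  have htop : j.opensRange ≤ j ''ᵁ ⊤ := le_of_eq j.image_top_eq_opensRange.symm
  refine ⟨mres L htop ((L.restrictAppIso j ⊤).hom (GenLocus.sect t.inv ⊤)), fun V hV ↦ ?_⟩
  obtain ⟨W, rfl⟩ : ∃ W : Y.Opens, j ''ᵁ W = V :=
    ⟨j ⁻¹ᵁ V, (j.image_preimage_eq_opensRange_inf V).trans (inf_eq_right.mpr hV)⟩
  have hb : Function.Bijective (t.inv.app W) :=
    (ConcreteCategory.isIso_iff_bijective _).mp (Scheme.Modules.Hom.isIso_iff_isIso_app.mp inferInstance W)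
  have key : ∀ r : Γ(Y, W), (j.appIso W).inv r • mres L hV
      (mres L htop ((L.restrictAppIso j ⊤).hom (GenLocus.sect t.inv ⊤))) =
        (L.restrictAppIso j W).hom (t.inv.app W r) := fun r ↦ by
    rw [GenLocus.app_eq_smul, Scheme.Modules.smul_restrictAppIso_hom_apply, mres_mres,
      ← GenLocus.mres_sect t.inv (le_top : W ≤ ⊤)]
    rfl
  let e := (j.appIso W).commRingCatIsoToRingEquiv
  have : (fun r : Γ(X, j ''ᵁ W) ↦ r • mres L hV
      (mres L htop ((L.restrictAppIso j ⊤).hom (GenLocus.sect t.inv ⊤)))) =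
      fun r ↦ (L.restrictAppIso j W).hom (t.inv.app W (e r)) := funext fun r ↦ by
    rw [← key]
    exact congrArg (· • _) (e.symm_apply_apply r).symm
  rw [this]
  exact ((ConcreteCategory.isIso_iff_bijective (L.restrictAppIso j W).hom).mp inferInstance).comp
    (hb.comp e.bijective)

variable [IsIntegral X]

theorem exists_frame_eta {F : X.Modules} (hF : RefHull.GenInvertible F) :
    ∃ (W : X.Opens) (_ : genericPoint X ∈ W) (e : Γ(F, W)), GenLocus.IsFrame F e := by
  obtain ⟨U, hd, hU⟩ := hF
  obtain ⟨x, hx⟩ := hd.nonempty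
  obtain ⟨V, hxV, ⟨t⟩⟩ := hU ⟨genericPoint X, eta_mem hx⟩
  obtain ⟨e, he⟩ := exists_frame_of_triv (V.ι ≫ U.ι)
    (((Scheme.Modules.restrictFunctorComp V.ι U.ι).app F) ≪≫ t)
  exact ⟨_, (show genericPoint X ∈ (V.ι ≫ U.ι).opensRange from ⟨⟨⟨_, eta_mem hx⟩, hxV⟩, rfl⟩), e, he⟩

theorem frame_eta_bijective {F : X.Modules} {W : X.Opens} (hW : genericPoint X ∈ W) {e : Γ(F, W)}
    (he : GenLocus.IsFrame F e) :
    Function.Bijective fun a : X.presheaf.stalk (genericPoint X) =>
      a • F.presheaf.germ W (genericPoint X) hW e := by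
  have hres : ∀ (V : X.Opens) (hVW : V ≤ W) (hV : genericPoint X ∈ V) (r : Γ(X, V)),
      F.presheaf.germ V (genericPoint X) hV (r • mres F hVW e) =
        X.presheaf.germ V (genericPoint X) hV r • F.presheaf.germ W (genericPoint X) hW e := by
    intro V hVW hV r
    rw [Mero.germ_smul, mres, TopCat.Presheaf.germ_res_apply]
  refine ⟨fun a b hab => ?_, fun v => ?_⟩
  · obtain ⟨Ua, ha, ra, rfl⟩ := TopCat.Presheaf.exists_germ_eq X.presheaf a
    obtain ⟨Ub, hb, rb, rfl⟩ := TopCat.Presheaf.exists_germ_eq X.presheaf b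
    let V := (Ua ⊓ Ub) ⊓ W
    have hV : genericPoint X ∈ V := ⟨⟨ha, hb⟩, hW⟩
    have hle : V ≤ Ua := inf_le_left.trans inf_le_left
    have hle' : V ≤ Ub := inf_le_left.trans inf_le_right
    simp only at hab
    rw [← TopCat.Presheaf.germ_res_apply X.presheaf (homOfLE hle) _ hV,
      ← TopCat.Presheaf.germ_res_apply X.presheaf (homOfLE hle') _ hV,
      ← hres V inf_le_right hV, ← hres V inf_le_right hV] at hab
    obtain ⟨T, hT, i₁, i₂, hT'⟩ := TopCat.Presheaf.germ_eq F.presheaf _ hV hV _ _ hab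
    have h2 : ∀ (i : T ⟶ V) (r : Γ(X, V)), F.presheaf.map i.op (r • mres F inf_le_right e) =
        X.presheaf.map i.op r • mres F (i.le.trans inf_le_right) e := fun i r => by
      rw [Scheme.Modules.map_smul]
      exact congrArg (_ • ·) (mres_mres F _ i.le e)
    rw [h2, h2] at hT'
    have h3 := (he T (i₁.le.trans inf_le_right)).1 hT'
    have h4 := congrArg (X.presheaf.germ T (genericPoint X) hT) h3
    rw [TopCat.Presheaf.germ_res_apply, TopCat.Presheaf.germ_res_apply,
      TopCat.Presheaf.germ_res_apply, TopCat.Presheaf.germ_res_apply] at h4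
    exact h4
  · obtain ⟨Uv, hv, m, rfl⟩ := TopCat.Presheaf.exists_germ_eq F.presheaf v
    let V := Uv ⊓ W
    obtain ⟨r, hr⟩ := (he V inf_le_right).2 (mres F (inf_le_left : V ≤ Uv) m)
    refine ⟨X.presheaf.germ V (genericPoint X) ⟨hv, hW⟩ r, ?_⟩
    simp only at hr ⊢
    rw [← hres V inf_le_right ⟨hv, hW⟩ r, hr, mres, TopCat.Presheaf.germ_res_apply]

/-- Functionals on a free rank one generic stalk, normalised at a given element. -/
theorem exists_fnl {F : X.Modules} (hF : RefHull.GenInvertible F)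
    (v₀ : F.presheaf.stalk (genericPoint X)) (hv₀ : v₀ ≠ 0) :
    ∃ φ : Fnl F, Function.Bijective φ.toHom ∧ φ.toHom v₀ = 1 := by
  obtain ⟨W, hW, e, he⟩ := exists_frame_eta hF
  have hb := frame_eta_bijective hW he
  let f : X.presheaf.stalk (genericPoint X) → F.presheaf.stalk (genericPoint X) :=
    fun a => a • F.presheaf.germ W (genericPoint X) hW e
  choose g hg₀ using hb.2
  have hg : ∀ b, g b • F.presheaf.germ W (genericPoint X) hW e = b := hg₀
  have hadd : ∀ a b, g (a + b) = g a + g b := fun a b => hb.1 (by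
    simp only; rw [hg, add_smul, hg, hg])
  have hsmul : ∀ (a : X.presheaf.stalk (genericPoint X)) (b), g (a • b) = a * g b := fun a b => hb.1 (by
    simp only; rw [hg, mul_smul, hg])
  have hz : g 0 = 0 := hb.1 (by simp only; rw [hg, zero_smul])
  have hc : (g v₀ : X.functionField) ≠ 0 := fun h => hv₀ (by
    rw [← hg v₀, show g v₀ = 0 from h, zero_smul])
  let φ : Fnl F :=
    { toHom :=
        { toFun := fun v => (g v : X.functionField) / (g v₀ : X.functionField)
          map_zero' := by rw [hz]; exact zero_div _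
          map_add' := fun a b => by rw [hadd]; exact add_div _ _ _ }
      map_smul := fun a b => by
        change (g (a • b) : X.functionField) / _ = _
        rw [hsmul]; exact mul_div_assoc _ _ _ }
  refine ⟨φ, ⟨fun a b hab => ?_, fun c => ?_⟩, div_self hc⟩
  · change (g a : X.functionField) / _ = (g b : X.functionField) / _ at hab
    rw [← hg a, ← hg b, show g a = g b from (div_left_inj' hc).mp hab]
  · let d : X.presheaf.stalk (genericPoint X) := c * (g v₀ : X.functionField)
    refine ⟨f d, ?_⟩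
    have : g (f d) = d := hb.1 (by simp only; rw [hg])
    change (g (f d) : X.functionField) / _ = c
    rw [this]
    exact mul_div_cancel_right₀ c hc

variable [IsLocallyNoetherian X] [Nrm X]

omit [IsLocallyNoetherian X] [Nrm X] in
theorem exists_valAt_ne_zero {F : X.Modules} (hq : F.IsQuasicoherent) {φ : Fnl F}
    (hb : Function.Bijective φ.toHom) (z : X) : ∃ v, valAt φ z v ≠ 0 := by
  obtain ⟨_, ⟨U, hU, rfl⟩, hzU, -⟩ :=
    X.isBasis_affineOpens.exists_subset_of_mem_open (Set.mem_univ z) isOpen_univ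
  obtain ⟨v, hv⟩ := hb.2 1
  obtain ⟨g, s, hg, hs⟩ := AssPts.exists_germ_smul_eq F hU (genericPoint X) (eta_mem hzU) v
  refine ⟨F.presheaf.germ U z hzU s, ?_⟩
  rw [← valAt_toEta, toEta_germ, ← hs]
  change φ.toHom (X.presheaf.germ U (genericPoint X) (eta_mem hzU) g • v) ≠ 0
  rw [φ.map_smul, hv, mul_one]
  exact ((AssPts.notMem_prime_iff hU _ (eta_mem hzU) g).1 hg).ne_zero

/-- A coherent rank one module agrees with some `O(D)` in codimension one. -/
theorem exists_good {F : X.Modules} (hC : Coh.IsCoh F) (hG : RefHull.GenInvertible F)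
    {φ : Fnl F} (hb : Function.Bijective φ.toHom) :
    ∃ D : X → ℤ, LocFin D ∧ (∀ z, coheight z ≠ 1 → D z = 0) ∧ Good φ D := by
  have hex : ∀ z : X, coheight z = 1 → ∃ n : ℤ, (∀ v, Mem (fun _ => n) z (valAt φ z v)) ∧
      ∀ c, Mem (fun _ => n) z c → ∃ v, valAt φ z v = c := by
    intro z hz
    obtain ⟨S, hS⟩ := (finite_stalk hC z).fg_top
    obtain ⟨v₁, hv₁⟩ := exists_valAt_ne_zero hC.1 hb z
    classical
    let S' := S.filter fun v => valAt φ z v ≠ 0
    have hS' : S'.Nonempty := by
      by_contra hempty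
      apply hv₁
      have : (v₁ : F.presheaf.stalk z) ∈ LinearMap.ker (valAt φ z) := by
        have hle : Submodule.span (X.presheaf.stalk z) (S : Set (F.presheaf.stalk z)) ≤
            LinearMap.ker (valAt φ z) := Submodule.span_le.mpr fun s hs => by
          by_contra h
          exact hempty ⟨s, Finset.mem_filter.mpr ⟨hs, fun h' => h (LinearMap.mem_ker.mpr h')⟩⟩
        exact hle (hS ▸ Submodule.mem_top)
      exact LinearMap.mem_ker.mp this
    obtain ⟨s₀, hs₀, hmin⟩ := S'.exists_min_image (fun v => Scheme.ord (valAt φ z v) z) hS'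
    have hne : valAt φ z s₀ ≠ 0 := (Finset.mem_filter.mp hs₀).2
    refine ⟨-Scheme.ord (valAt φ z s₀) z, fun v => ?_, fun c hc => ?_⟩
    · have : v ∈ Submodule.span (X.presheaf.stalk z) (S : Set (F.presheaf.stalk z)) :=
        hS ▸ Submodule.mem_top
      induction this using Submodule.span_induction with
      | mem s hs =>
        intro _
        by_cases h : valAt φ z s = 0
        · exact Or.inl h
        · exact Or.inr (by
            have := hmin s (Finset.mem_filter.mpr ⟨hs, h⟩)
            dsimp only at this ⊢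
            omega)
      | zero => rw [map_zero]; exact mem_zero
      | add a b _ _ ha hb' => rw [map_add]; exact ha.add hb'
      | smul r a _ ha => rw [map_smul]; exact ha.smul r
    · by_cases hc0 : c = 0
      · exact ⟨0, by rw [map_zero, hc0]⟩
      have hord : 0 ≤ Scheme.ord (c / valAt φ z s₀) z := by
        rw [div_eq_mul_inv, Scheme.ord_mul hc0 (inv_ne_zero hne), ord_inv z hne]
        rcases hc hz with h | h
        · exact absurd h hc0
        · dsimp only at h
          omega
      obtain ⟨a, ha⟩ := (mem_range_iff hz (div_ne_zero hc0 hne)).mpr hord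
      exact ⟨a • s₀, by rw [map_smul, Algebra.smul_def, ha, div_mul_cancel₀ _ hne]⟩
  classical
  choose n hn hn' using hex
  let D : X → ℤ := fun z => if h : coheight z = 1 then n z h else 0
  have hgood : Good φ D :=
    { bij := hb
      mem := fun z hz v h => by simpa [D, hz] using hn z hz v h
      surj := fun z hz c hc => hn' z hz c fun h => by simpa [D, hz] using hc h }
  refine ⟨D, ?_, fun z hz => dif_neg hz, hgood⟩
  obtain ⟨W, hW, e, he⟩ := exists_frame_eta hG
  let ε := φ.toHom (F.presheaf.germ W (genericPoint X) hW e)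
  have hε : ε ≠ 0 := fun h => by
    have hz : F.presheaf.germ W (genericPoint X) hW e = 0 := hb.1 (h.trans (map_zero _).symm)
    have := (frame_eta_bijective hW he).1 (a₁ := 1) (a₂ := 0) (by simp [hz])
    exact one_ne_zero this
  obtain ⟨U₀, h₀, hord0⟩ := exists_open_ord_eq_zero hε
  refine locFin_of_vanish (W ⊓ U₀) ⟨hW, h₀⟩ fun z hz hz1 => ?_
  have h1 : valAt φ z (F.presheaf.germ W z hz.1 e) = ε :=
    congrArg φ.toHom (toEta_germ F z hz.1 e)
  rcases hgood.mem z hz1 (F.presheaf.germ W z hz.1 e) hz1 with h | h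
  · exact absurd (h1.symm.trans h) hε
  rw [h1, hord0 z hz.2] at h
  by_contra hne
  obtain ⟨b, hb0, hbo⟩ := exists_ord_eq z hz1 (-D z)
  obtain ⟨v, hv⟩ := hgood.surj z hz1 b fun _ => Or.inr hbo.ge
  obtain ⟨Uv, hzv, m, rfl⟩ := TopCat.Presheaf.exists_germ_eq F.presheaf v
  let V := Uv ⊓ W
  obtain ⟨r, hr⟩ := (he V inf_le_right).2 (mres F (inf_le_left : V ≤ Uv) m)
  simp only at hr
  have h2 : F.presheaf.germ Uv z hzv m =
      X.presheaf.germ V z ⟨hzv, hz.1⟩ r • F.presheaf.germ W z hz.1 e := by
    have := congrArg (F.presheaf.germ V z ⟨hzv, hz.1⟩) hr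
    rw [Mero.germ_smul, mres, mres, TopCat.Presheaf.germ_res_apply,
      TopCat.Presheaf.germ_res_apply] at this
    exact this.symm
  rw [h2, map_smul, h1, Algebra.smul_def] at hv
  have hr0 : X.presheaf.germ V z ⟨hzv, hz.1⟩ r ≠ 0 := fun h0 => hb0 (by
    rw [← hv, h0, map_zero, zero_mul])
  have hr0' : algebraMap (X.presheaf.stalk z) X.functionField (X.presheaf.germ V z ⟨hzv, hz.1⟩ r) ≠ 0 :=
    fun h0 => hr0 (IsFractionRing.injective _ X.functionField (h0.trans (map_zero _).symm))
  have := ord_algebraMap_nonneg _ hr0 (z := z)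
  rw [← hv, Scheme.ord_mul hr0' hε, hord0 z hz.2] at hbo
  omega

/-! ### Orders of rational sections -/

theorem smul_top_eq_bot (M : Type u) [AddCommGroup M] [Module (X.presheaf.stalk (genericPoint X)) M] :
    IsLocalRing.maximalIdeal (X.presheaf.stalk (genericPoint X)) •
      (⊤ : Submodule (X.presheaf.stalk (genericPoint X)) M) = ⊥ := by
  have : IsField (X.presheaf.stalk (genericPoint X)) := Field.toIsField X.functionField
  rw [IsLocalRing.isField_iff_maximalIdeal_eq.mp this, Submodule.bot_smul]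

theorem secFibre_bijective (F : X.Modules) :
    Function.Bijective (Submodule.Quotient.mk :
      F.presheaf.stalk (genericPoint X) → Cyc.secFibre F (genericPoint X)) :=
  ⟨fun a b h => sub_eq_zero.mp (by
    have := (Submodule.Quotient.eq _).mp h
    rwa [smul_top_eq_bot, Submodule.mem_bot] at this), Submodule.Quotient.mk_surjective _⟩

theorem residue_eta_injective : Function.Injective (X.residue (genericPoint X)) := by
  have : IsField (X.presheaf.stalk (genericPoint X)) := Field.toIsField X.functionField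
  let := this.toField
  exact (X.residue (genericPoint X)).hom.injective

theorem specMap_injective (z : X) (h : genericPoint X ⤳ z) :
    Function.Injective (Cyc.specMap z (genericPoint X) h) :=
  residue_eta_injective.comp (IsFractionRing.injective (X.presheaf.stalk z) X.functionField)

theorem cycOrdAt_eq {z : X} (hz : coheight z = 1) (c : X.functionField) (hc : c ≠ 0) :
    Cyc.ordAt z (genericPoint X) (eta_spec z) (X.residue (genericPoint X) c) = Scheme.ord c z := by
  let Q := Cyc.LocQuot z (genericPoint X) (eta_spec z)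
  let e : X.presheaf.stalk z ≃+* Q :=
    RingEquiv.ofBijective (Ideal.Quotient.mk (RingHom.ker (Cyc.specMap z (genericPoint X) (eta_spec z))))
      ⟨by
        rw [RingHom.injective_iff_ker_eq_bot, Ideal.mk_ker,
          (RingHom.injective_iff_ker_eq_bot _).mp (specMap_injective z (eta_spec z))],
        Ideal.Quotient.mk_surjective⟩
  have : IsDomain Q := e.symm.toMulEquiv.isDomain (X.presheaf.stalk z)
  have := isDVR z hz
  have hdvr : IsDiscreteValuationRing Q := IsDiscreteValuationRing.RingEquivClass.isDiscreteValuationRing e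
  let κ := X.residueField (genericPoint X)
  have halg : ∀ a, algebraMap Q κ (e a) =
      X.residue (genericPoint X) (algebraMap (X.presheaf.stalk z) X.functionField a) := fun a => rfl
  have hfr : IsFractionRing Q κ := by
    haveI : FaithfulSMul Q κ := (faithfulSMul_iff_algebraMap_injective Q κ).mpr fun x y hxy => by
      obtain ⟨a, rfl⟩ := e.surjective x
      obtain ⟨b, rfl⟩ := e.surjective y
      exact congrArg e (specMap_injective z (eta_spec z) hxy)
    refine IsFractionRing.of_field Q κ fun w => ?_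
    obtain ⟨w', rfl⟩ := X.residue_surjective (genericPoint X) w
    obtain ⟨a, b, -, hab⟩ := IsFractionRing.div_surjective (A := X.presheaf.stalk z) (K := X.functionField) w'
    refine ⟨e a, e b, ?_⟩
    rw [halg, halg, ← hab]
    let ρ : X.functionField →+* κ := (X.residue (genericPoint X)).hom
    exact map_div₀ ρ _ _
  obtain ⟨π, hπ, h1, hu, ϖ, hϖ, rfl⟩ := exists_uniformizer z hz
  obtain ⟨v, hv⟩ := hu c hc
  have : Ring.KrullDimLE 1 Q := inferInstance
  have hcond : IsNoetherianRing Q ∧ Ring.KrullDimLE 1 Q ∧ Nontrivial Q ∧ IsFractionRing Q κ :=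
    ⟨inferInstance, inferInstance, inferInstance, hfr⟩
  change CycAlg.ordFrac Q κ _ = _
  rw [CycAlg.ordFrac, dif_pos hcond]
  have key : Ring.ordFrac Q (X.residue (genericPoint X) c) = WithZero.exp (Scheme.ord c z) := by
    let ρ : X.functionField →+* κ := (X.residue (genericPoint X)).hom
    change Ring.ordFrac Q (ρ c) = _
    conv_lhs => rw [hv]
    rw [map_mul, map_zpow₀, map_mul, map_zpow₀]
    have a1 : Ring.ordFrac Q (ρ (algebraMap (X.presheaf.stalk z) X.functionField v)) = 1 := by
      rw [show ρ (algebraMap (X.presheaf.stalk z) X.functionField v) = algebraMap Q κ (e v) from (halg v).symm]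
      exact Ring.ordFrac_of_isUnit (v.isUnit.map e)
    have a2 : Ring.ordFrac Q (ρ (algebraMap (X.presheaf.stalk z) X.functionField ϖ)) = WithZero.exp 1 := by
      rw [show ρ (algebraMap (X.presheaf.stalk z) X.functionField ϖ) = algebraMap Q κ (e ϖ) from (halg ϖ).symm]
      exact Ring.ordFrac_irreducible ((MulEquiv.irreducible_iff e.toMulEquiv).mpr hϖ)
    rw [a1, a2, one_mul, ← WithZero.exp_zsmul]
    simp
  rw [key]
  rfl

theorem secOrdAt_eq {F : X.Modules} {φ : Fnl F} {D : X → ℤ} (hg : Good φ D) {z : X}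
    (hz : coheight z = 1) (hinj : Function.Injective (valAt φ z))
    (v₀ : F.presheaf.stalk (genericPoint X)) (hv₀ : v₀ ≠ 0) :
    Cyc.secOrdAt F (genericPoint X) z (eta_spec z) (Submodule.Quotient.mk v₀) =
      D z + Scheme.ord (φ.toHom v₀) z := by
  obtain ⟨b, hb, hbo⟩ := exists_ord_eq z hz (-D z)
  obtain ⟨t₀, ht₀⟩ := hg.surj z hz b fun _ => Or.inr hbo.ge
  have hgen : ∀ v, ∃ a : X.presheaf.stalk z, v = a • t₀ := fun v => by
    by_cases hv : valAt φ z v = 0
    · exact ⟨0, hinj (by rw [hv, zero_smul, map_zero])⟩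
    have hord : 0 ≤ Scheme.ord (valAt φ z v / b) z := by
      rw [div_eq_mul_inv, Scheme.ord_mul hv (inv_ne_zero hb), ord_inv z hb, hbo]
      rcases hg.mem z hz v hz with h | h
      · exact absurd h hv
      · omega
    obtain ⟨a, ha⟩ := (mem_range_iff hz (div_ne_zero hv hb)).mpr hord
    exact ⟨a, hinj (by rw [map_smul, Algebra.smul_def, ha, ht₀, div_mul_cancel₀ _ hb])⟩
  have hspan : ∃ t : F.presheaf.stalk z, Submodule.span (X.presheaf.stalk z) {t} = ⊤ :=
    ⟨t₀, eq_top_iff.mpr fun v _ => Submodule.mem_span_singleton.mpr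
      ((hgen v).imp fun a ha => ha.symm)⟩
  rw [Cyc.secOrdAt, dif_pos hspan]
  obtain ⟨ht, t', ht'⟩ : Submodule.span (X.presheaf.stalk z) {Classical.choose hspan} = ⊤ ∧
      ∃ t, t = Classical.choose hspan := ⟨Classical.choose_spec hspan, _, rfl⟩
  rw [← ht'] at ht ⊢
  rename' t' => t
  obtain ⟨a, ha⟩ := hgen t
  obtain ⟨a', ha'⟩ := Submodule.mem_span_singleton.mp (ht ▸ Submodule.mem_top : t₀ ∈ _)
  have hval : valAt φ z t = algebraMap (X.presheaf.stalk z) X.functionField a * b := by
    rw [ha, map_smul, ht₀, Algebra.smul_def]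
  have haa : a' * a = 1 := by
    have := congrArg (valAt φ z) ha'
    rw [map_smul, hval, ht₀, Algebra.smul_def, ← mul_assoc, ← map_mul] at this
    exact IsFractionRing.injective _ X.functionField
      ((mul_eq_right₀ hb).mp this |>.trans (map_one _).symm)
  have hu : IsUnit a := IsUnit.of_mul_eq_one_right a' haa
  have hta : Scheme.ord (valAt φ z t) z = -D z := by
    rw [hval, Scheme.ord_mul (hu.map _).ne_zero hb, hbo]
    obtain ⟨w, rfl⟩ := hu
    rw [ord_units, zero_add]
  have ht0 : valAt φ z t ≠ 0 := by rw [hval]; exact mul_ne_zero (hu.map _).ne_zero hb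
  have hφv : φ.toHom v₀ ≠ 0 := fun h => hv₀ (hg.bij.1 (h.trans (map_zero _).symm))
  let q : X.presheaf.stalk (genericPoint X) := φ.toHom v₀ / valAt φ z t
  have hv : v₀ = q • toEta F z t := hg.bij.1 (by
    rw [φ.map_smul]
    exact (div_mul_cancel₀ _ ht0).symm)
  have hex : ∃ ψ : X.presheaf.stalk (genericPoint X),
      (Submodule.Quotient.mk v₀ : Cyc.secFibre F (genericPoint X)) =
        ψ • (Submodule.Quotient.mk ((F.presheaf.stalkSpecializes (eta_spec z)) t)) :=
    ⟨q, by rw [hv]; rfl⟩
  rw [dif_pos hex]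
  obtain ⟨hψ, ψ, hψe⟩ : (Submodule.Quotient.mk v₀ : Cyc.secFibre F (genericPoint X)) =
        Classical.choose hex • (Submodule.Quotient.mk ((F.presheaf.stalkSpecializes (eta_spec z)) t)) ∧
      ∃ ψ, ψ = Classical.choose hex := ⟨Classical.choose_spec hex, _, rfl⟩
  rw [← hψe] at hψ ⊢
  have hψ' : v₀ = ψ • toEta F z t := (secFibre_bijective F).1 hψ
  have hψK : φ.toHom v₀ = HMul.hMul (α := X.functionField) ψ (valAt φ z t) := by
    rw [hψ', φ.map_smul]; rfl
  have hψ0 : (ψ : X.functionField) ≠ 0 := fun h => hφv (by rw [hψK, h, zero_mul])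
  rw [cycOrdAt_eq hz _ hψ0, hψK, Scheme.ord_mul hψ0 ht0, hta]
  omega

theorem valAt_injective_of_iso {F : X.Modules} {φ : Fnl F} {D : X → ℤ} (hg : Good φ D)
    (hD : LocFin D) (hr : RefHull.IsReflexive F) (x : X) : Function.Injective (valAt φ x) := by
  have : IsIso (RefHull.bidualMap F) := hr
  intro a b hab
  apply (stalkMap_bijective_of_isIso (RefHull.bidualMap F) x).1
  apply dualFnl_injective (dualFnl_good hg hD)
  exact (ddualFnl_bidual hg hD x a).trans (hab.trans (ddualFnl_bidual hg hD x b).symm)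

theorem ref1_structure {F : X.Modules} (hF : RefHull.IsRef1 F)
    (s : Cyc.secFibre F (genericPoint X)) (hs : s ≠ 0) :
    ∃ (D : X → ℤ) (φ : Fnl F), LocFin D ∧ (∀ z, coheight z ≠ 1 → D z = 0) ∧ Good φ D ∧
      Nonempty (F ≅ OD D) ∧
      (∀ z, coheight z = 1 → Cyc.secOrdAt F (genericPoint X) z (eta_spec z) s = D z) := by
  obtain ⟨v₀, rfl⟩ := (secFibre_bijective F).2 s
  have hv₀ : v₀ ≠ 0 := fun h => hs (by rw [h]; rfl)
  obtain ⟨φ, hb, h1⟩ := exists_fnl hF.2.2 v₀ hv₀
  obtain ⟨D, hD, hD0, hg⟩ := exists_good hF.1 hF.2.2 hb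
  refine ⟨D, φ, hD, hD0, hg, nonempty_iso_of_reflexive hg hD hF.2.1, fun z hz => ?_⟩
  rw [secOrdAt_eq hg hz (valAt_injective_of_iso hg hD hF.2.1 z) v₀ hv₀, h1, ord_one, add_zero]

theorem exists_sec {F : X.Modules} (hF : RefHull.GenInvertible F) :
    ∃ s : Cyc.secFibre F (genericPoint X), s ≠ 0 := by
  obtain ⟨W, hW, e, he⟩ := exists_frame_eta hF
  refine ⟨Submodule.Quotient.mk (F.presheaf.germ W (genericPoint X) hW e), fun h => ?_⟩
  have h0 : F.presheaf.germ W (genericPoint X) hW e = 0 := (secFibre_bijective F).1 h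
  exact one_ne_zero ((frame_eta_bijective hW he).1 (a₁ := 1) (a₂ := 0) (by simp [h0]))

/-! ### Linear equivalence -/

theorem linEquiv_of_iso {D E : X → ℤ} (hD : LocFin D) (hE : LocFin E) (i : OD D ≅ OD E) :
    ∃ f : X.functionField, f ≠ 0 ∧ ∀ z, coheight z = 1 → D z = E z + Scheme.ord f z := by
  obtain ⟨w, hw⟩ := (fnlOD_good hD).bij.2 1
  let f := (fnlOD E).toHom (RefHull.stalkMapₗ i.hom (genericPoint X) w)
  have key : ∀ z (v : (OD D).presheaf.stalk z),
      evK E z (RefHull.stalkMapₗ i.hom z v) = f * evK D z v := by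
    intro z v
    rw [evK_stalkMap_eta, ← valAt_fnlOD D z v]
    let a : X.presheaf.stalk (genericPoint X) := (fnlOD D).toHom (toEta _ z v)
    have : a • w = toEta (OD D) z v := (fnlOD_good hD).bij.1 (by
      rw [(fnlOD D).map_smul, hw, mul_one])
    rw [← this, map_smul]
    change (fnlOD E).toHom (a • RefHull.stalkMapₗ i.hom (genericPoint X) w) = _
    rw [(fnlOD E).map_smul, mul_comm]
    rfl
  have hf : f ≠ 0 := fun h => by
    have hinj := (fnlOD_good hE).bij.1 (h.trans (map_zero _).symm)
    have := (stalkMap_bijective_of_isIso i.hom (genericPoint X)).1 (hinj.trans (map_zero _).symm)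
    rw [this, map_zero] at hw
    exact zero_ne_one hw
  refine ⟨f, hf, fun z hz => ?_⟩
  obtain ⟨b, hb, hbo⟩ := exists_ord_eq z hz (-D z)
  obtain ⟨v, hv⟩ := exists_evK hD z (c := b) fun w hw' hw1 => by
    rw [eq_of_specializes_codim_one hw1 hz hw']; exact fun _ => Or.inr hbo.ge
  have h1 := mem_of_evK E z (RefHull.stalkMapₗ i.hom z v) specializes_rfl hz
  rw [key, hv] at h1
  obtain ⟨b', hb', hbo'⟩ := exists_ord_eq z hz (-E z)
  obtain ⟨u, hu⟩ := exists_evK hE z (c := b') fun w hw' hw1 => by
    rw [eq_of_specializes_codim_one hw1 hz hw']; exact fun _ => Or.inr hbo'.ge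
  obtain ⟨v', rfl⟩ := (stalkMap_bijective_of_isIso i.hom z).2 u
  rw [key] at hu
  rcases mem_of_evK D z v' specializes_rfl hz with h2 | h2
  · rw [h2, mul_zero] at hu; exact absurd hu.symm hb'
  rcases h1 with h1 | h1
  · exact absurd h1 (mul_ne_zero hf hb)
  rw [Scheme.ord_mul hf hb, hbo] at h1
  have hne : evK D z v' ≠ 0 := fun h => hb' (by rw [← hu, h, mul_zero])
  rw [← hu, Scheme.ord_mul hf hne] at hbo'
  omega

theorem iso_of_linEquiv {D E : X → ℤ} (hD : LocFin D) (hE : LocFin E) {f : X.functionField}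
    (hf : f ≠ 0) (h : ∀ z, coheight z = 1 → D z = E z + Scheme.ord f z) :
    Nonempty (OD D ≅ OD E) := by
  let φ : Fnl (OD D) :=
    { toHom := (AddMonoidHom.mulLeft f).comp (fnlOD D).toHom
      map_smul := fun a v => by
        change f * (fnlOD D).toHom (a • v) = _
        rw [(fnlOD D).map_smul]
        exact mul_left_comm _ _ _ }
  have hval : ∀ x v, valAt φ x v = f * evK D x v := fun x v => by
    rw [← valAt_fnlOD]; rfl
  have hmem : ∀ z (_ : coheight z = 1) (c : X.functionField), Mem D z c ↔ Mem E z (f * c) := by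
    intro z hz c
    by_cases hc : c = 0
    · simp [hc, mem_zero]
    constructor
    · intro hm _
      rcases hm hz with h' | h'
      · exact absurd h' hc
      refine Or.inr ?_
      rw [Scheme.ord_mul hf hc]
      have := h z hz; omega
    · intro hm _
      rcases hm hz with h' | h'
      · exact absurd h' (mul_ne_zero hf hc)
      refine Or.inr ?_
      rw [Scheme.ord_mul hf hc] at h'
      have := h z hz; omega
  have hφ : ∀ z, coheight z = 1 → ∀ v, Mem E z (valAt φ z v) := fun z hz v => by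
    rw [hval]; exact (hmem z hz _).mp (mem_of_evK D z v specializes_rfl)
  have := isIso_of_valAt E (mkHom E φ hφ) φ (evK_mkHom E _ _)
    (fun x a b hab => evK_injective D x (mul_left_cancel₀ hf (by rwa [hval, hval] at hab)))
    (fun x c hc => by
      obtain ⟨v, hv⟩ := exists_evK hD x (c := c / f) fun z hzx hz => (hmem z hz _).mpr (by
        rw [mul_div_cancel₀ _ hf]; exact hc z hzx hz)
      exact ⟨v, by rw [hval, hv, mul_div_cancel₀ _ hf]⟩)
  exact ⟨asIso (mkHom E φ hφ)⟩

end Groth.Agent.RefDiv
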