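import Groth.Agent.RefDiv.Group
import Groth.Prelude.Def_RefPow

/-!
# Where a section of a coherent module generates freely
-/

set_option autoImplicit false

noncomputable section

universe u

open CategoryTheory Limits AlgebraicGeometry TopologicalSpace Order Opposite
open Groth.Agent.QCohBase

namespace Groth.Agent.RefDiv

section General

variable {X : Scheme.{u}}

/-- The germ of a section, as a map from the local ring. -/
abbrev genMap {F : X.Modules} {U : X.Opens} (m : Γ(F, U)) (x : X) (hx : x ∈ U) :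
    X.presheaf.stalk x → F.presheaf.stalk x := fun a => a • F.presheaf.germ U x hx m

theorem isOpen_generates [IsLocallyNoetherian X] {F : X.Modules} (hF : Coh.IsCoh F) {U : X.Opens}
    (hU : IsAffineOpen U) (m : Γ(F, U)) {x : X} (hx : x ∈ U)
    (hb : Function.Bijective (genMap m x hx)) :
    ∃ W : X.Opens, x ∈ W ∧ ∃ hW : W ≤ U, ∀ y (hy : y ∈ W), Function.Bijective (genMap m y (hW hy)) := by
  obtain ⟨hq, hfin⟩ := (QCohBase.isCoh_iff F).mp hF
  have := hfin U hU
  have : IsNoetherianRing Γ(X, U) := IsLocallyNoetherian.component_noetherian ⟨U, hU⟩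
  let L : Γ(X, U) →ₗ[Γ(X, U)] Γ(F, U) := LinearMap.toSpanSingleton Γ(X, U) Γ(F, U) m
  let p := (hU.primeIdealOf ⟨x, hx⟩).asIdeal
  obtain ⟨K, hK⟩ : (LinearMap.ker L).FG := IsNoetherian.noetherian _
  obtain ⟨S, hS⟩ := Module.Finite.fg_top (R := Γ(X, U)) (M := Γ(F, U))
  letI : Algebra Γ(X, U) (X.presheaf.stalk x) := TopCat.Presheaf.algebra_section_stalk X.presheaf ⟨x, hx⟩
  have hloc : IsLocalization.AtPrime (X.presheaf.stalk x) p := hU.isLocalization_stalk ⟨x, hx⟩
  have hker : ∀ k : Γ(X, U), k • m = 0 → ∃ g ∉ p, g * k = 0 := fun k hk => by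
    have h0 : X.presheaf.germ U x hx k = 0 := hb.1 (by
      simp only [genMap]
      rw [zero_smul, ← Mero.germ_smul, hk, map_zero])
    obtain ⟨g, hg⟩ := (IsLocalization.map_eq_zero_iff p.primeCompl (X.presheaf.stalk x) k).mp h0
    exact ⟨g.1, g.2, hg⟩
  have hsur : ∀ n : Γ(F, U), ∃ g ∉ p, ∃ r : Γ(X, U), g • n = r • m := fun n => by
    obtain ⟨a, ha⟩ := hb.2 (F.presheaf.germ U x hx n)
    obtain ⟨⟨r, g⟩, hrg⟩ := IsLocalization.surj p.primeCompl a
    change a * X.presheaf.germ U x hx g.1 = X.presheaf.germ U x hx r at hrg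
    have h0 : F.presheaf.germ U x hx (g.1 • n - r • m) = 0 := by
      rw [map_sub, Mero.germ_smul, Mero.germ_smul, ← hrg, sub_eq_zero, mul_comm, mul_smul]
      exact congrArg (_ • ·) ha.symm
    obtain ⟨g', hg', hg''⟩ := (AssPts.germ_eq_zero_iff F hU x hx _).1 h0
    refine ⟨g' * g.1, (hU.primeIdealOf ⟨x, hx⟩).isPrime.mul_notMem hg' g.2, g' * r, ?_⟩
    rw [smul_sub, sub_eq_zero, smul_smul, smul_smul] at hg''
    exact hg''
  choose gk hgk hgk' using fun k : K => hker k.1 (by
    have : k.1 ∈ LinearMap.ker L := hK ▸ Submodule.subset_span k.2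
    exact this)
  choose gs hgs rs hrs using fun n : S => hsur n.1
  classical
  let g := (∏ k, gk k) * ∏ n, gs n
  have hgp : g ∉ p := (hU.primeIdealOf ⟨x, hx⟩).isPrime.mul_notMem
    (fun h => by
      obtain ⟨k, -, hk⟩ := (hU.primeIdealOf ⟨x, hx⟩).isPrime.prod_mem_iff.mp h
      exact hgk k hk)
    (fun h => by
      obtain ⟨k, -, hk⟩ := (hU.primeIdealOf ⟨x, hx⟩).isPrime.prod_mem_iff.mp h
      exact hgs k hk)
  refine ⟨X.basicOpen g, (Scheme.mem_basicOpen X g x hx).mpr ((AssPts.notMem_prime_iff hU x hx g).1 hgp),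
    X.basicOpen_le g, fun y hy => ?_⟩
  have hyU : y ∈ U := X.basicOpen_le g hy
  have hgu : IsUnit (X.presheaf.germ U y hyU g) := (Scheme.mem_basicOpen X g y hyU).mp hy
  letI : Algebra Γ(X, U) (X.presheaf.stalk y) := TopCat.Presheaf.algebra_section_stalk X.presheaf ⟨y, hyU⟩
  have hlocy : IsLocalization.AtPrime (X.presheaf.stalk y) (hU.primeIdealOf ⟨y, hyU⟩).asIdeal :=
    hU.isLocalization_stalk ⟨y, hyU⟩
  have hkill : ∀ k : Γ(X, U), k • m = 0 → g * k = 0 := fun k hk => by
    have : k ∈ Submodule.span Γ(X, U) (K : Set Γ(X, U)) := by rw [hK]; exact hk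
    induction this using Submodule.span_induction with
    | mem z hz =>
      have hd : gk ⟨z, hz⟩ ∣ g :=
        (Finset.dvd_prod_of_mem (fun k => gk k) (Finset.mem_univ (⟨z, hz⟩ : K))).mul_right _
      obtain ⟨q, hq⟩ := hd
      rw [hq, mul_comm (gk ⟨z, hz⟩) q, mul_assoc, hgk', mul_zero]
    | zero => rw [mul_zero]
    | add a b ha hb' iha ihb =>
      have ha' : a • m = 0 := by
        have := hK.le ha
        exact this
      have hb'' : b • m = 0 := by
        have := hK.le hb'
        exact this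
      rw [mul_add, iha ha', ihb hb'', add_zero]
    | smul r a ha iha =>
      have ha' : a • m = 0 := by
        have := hK.le ha
        exact this
      rw [smul_eq_mul, mul_left_comm, iha ha', mul_zero]
  have hgen : ∀ n : Γ(F, U), ∃ r : Γ(X, U), g • n = r • m := fun n => by
    have : n ∈ Submodule.span Γ(X, U) (S : Set Γ(F, U)) := hS ▸ Submodule.mem_top
    induction this using Submodule.span_induction with
    | mem z hz =>
      have hd : gs ⟨z, hz⟩ ∣ g :=
        (Finset.dvd_prod_of_mem (fun n => gs n) (Finset.mem_univ (⟨z, hz⟩ : S))).mul_left _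
      obtain ⟨q, hq⟩ := hd
      exact ⟨q * rs ⟨z, hz⟩, by rw [hq, mul_comm (gs ⟨z, hz⟩) q, mul_smul, hrs, mul_smul]⟩
    | zero => exact ⟨0, by rw [smul_zero, zero_smul]⟩
    | add a b _ _ ha hb' =>
      obtain ⟨r, hr⟩ := ha; obtain ⟨r', hr'⟩ := hb'
      exact ⟨r + r', by rw [smul_add, hr, hr', add_smul]⟩
    | smul c a _ ha =>
      obtain ⟨r, hr⟩ := ha
      exact ⟨c * r, by rw [smul_comm, hr, mul_smul]⟩
  constructor
  · intro a b hab
    rw [← sub_eq_zero]
    simp only [genMap] at hab
    rw [← sub_eq_zero, ← sub_smul] at hab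
    obtain ⟨⟨r, u⟩, hru⟩ := IsLocalization.surj (hU.primeIdealOf ⟨y, hyU⟩).asIdeal.primeCompl (a - b)
    change (a - b) * X.presheaf.germ U y hyU u.1 = X.presheaf.germ U y hyU r at hru
    have h0 : F.presheaf.germ U y hyU (r • m) = 0 := by
      rw [Mero.germ_smul, ← hru, mul_comm, mul_smul, hab, smul_zero]
    obtain ⟨t, ht, ht'⟩ := (AssPts.germ_eq_zero_iff F hU y hyU _).1 h0
    rw [smul_smul] at ht'
    have h1 := congrArg (X.presheaf.germ U y hyU) (hkill _ ht')
    rw [map_mul, map_mul _ t r, map_zero, ← hru] at h1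
    have htu := (AssPts.notMem_prime_iff hU y hyU t).1 ht
    have huu := (AssPts.notMem_prime_iff hU y hyU u.1).1 u.2
    rwa [hgu.mul_right_eq_zero, htu.mul_right_eq_zero, huu.mul_left_eq_zero] at h1
  · intro v
    obtain ⟨u, n, hu, hn⟩ := AssPts.exists_germ_smul_eq F hU y hyU v
    obtain ⟨r, hr⟩ := hgen n
    obtain ⟨w, hw⟩ := ((AssPts.notMem_prime_iff hU y hyU u).1 hu).mul hgu
    refine ⟨(↑w⁻¹ : X.presheaf.stalk y) * X.presheaf.germ U y hyU r, ?_⟩
    simp only [genMap]
    have h2 := congrArg (F.presheaf.germ U y hyU) hr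
    rw [Mero.germ_smul, Mero.germ_smul, ← hn, smul_smul] at h2
    rw [mul_smul, ← h2, mul_comm (X.presheaf.germ U y hyU g), ← hw, smul_smul, Units.inv_mul, one_smul]

/-- A global section of a coherent module on a locally Noetherian scheme generates freely on an open set. -/
theorem isOpen_setOf_generates [IsLocallyNoetherian X] {F : X.Modules} (hF : Coh.IsCoh F) (m : Γ(F, ⊤)) :
    IsOpen {x : X | Function.Bijective (genMap m x trivial)} := by
  rw [isOpen_iff_forall_mem_open]
  intro x hx
  obtain ⟨_, ⟨U, hU, rfl⟩, hxU, -⟩ :=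
    X.isBasis_affineOpens.exists_subset_of_mem_open (Set.mem_univ x) isOpen_univ
  have hres : ∀ y (hy : y ∈ U), genMap (mres F (le_top : U ≤ ⊤) m) y hy = genMap m y trivial :=
    fun y hy => funext fun a => congrArg (a • ·) (TopCat.Presheaf.germ_res_apply F.presheaf _ _ _ m)
  obtain ⟨W, hxW, hW, hb⟩ := isOpen_generates hF hU (mres F (le_top : U ≤ ⊤) m) hxU (by rw [hres]; exact hx)
  exact ⟨W, fun y hy => by rw [Set.mem_setOf, ← hres y (hW hy)]; exact hb y hy, W.isOpen, hxW⟩

theorem stalkMap_one_smul {F : X.Modules} (s : Coh.structureModule X ⟶ F) (x : X)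
    (a : X.presheaf.stalk x) :
    RefHull.stalkMapₗ s x (a • (Coh.structureModule X).presheaf.germ ⊤ x trivial
      ((1 : X.ringCatSheaf.obj.obj (op ⊤)) : (Coh.structureModule X).val.obj (op ⊤))) =
      a • F.presheaf.germ ⊤ x trivial (SecTwist.val s ⊤) := by
  rw [map_smul, RefHull.stalkMapₗ_germ]
  rfl

theorem bijective_one_smul (x : X) : Function.Bijective fun a : X.presheaf.stalk x =>
    a • (Coh.structureModule X).presheaf.germ ⊤ x trivial
      ((1 : X.ringCatSheaf.obj.obj (op ⊤)) : (Coh.structureModule X).val.obj (op ⊤)) := by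
  have h1 : ∀ (U : X.Opens) (hx : x ∈ U) (r : Γ(X, U)),
      (Coh.structureModule X).presheaf.germ U x hx r =
        X.presheaf.germ U x hx r • (Coh.structureModule X).presheaf.germ ⊤ x trivial
          ((1 : X.ringCatSheaf.obj.obj (op ⊤)) : (Coh.structureModule X).val.obj (op ⊤)) := by
    intro U hx r
    rw [← TopCat.Presheaf.germ_res_apply (Coh.structureModule X).presheaf (homOfLE (le_top : U ≤ ⊤)) x hx,
      ← Mero.germ_smul]
    refine congrArg _ ?_
    have : (Coh.structureModule X).presheaf.map (homOfLE (le_top : U ≤ ⊤)).op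
        ((1 : X.ringCatSheaf.obj.obj (op ⊤)) : (Coh.structureModule X).val.obj (op ⊤)) =
        ((1 : X.ringCatSheaf.obj.obj (op U)) : (Coh.structureModule X).val.obj (op U)) :=
      PresheafOfModules.unit_map_one _ _
    rw [this]
    exact (mul_one (r : X.ringCatSheaf.obj.obj (op U))).symm
  constructor
  · intro a b hab
    obtain ⟨Ua, ha, ra, rfl⟩ := TopCat.Presheaf.exists_germ_eq X.presheaf a
    obtain ⟨Ub, hb, rb, rfl⟩ := TopCat.Presheaf.exists_germ_eq X.presheaf b
    simp only at hab
    rw [← h1, ← h1] at hab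
    obtain ⟨T, hT, i₁, i₂, h⟩ := TopCat.Presheaf.germ_eq (Coh.structureModule X).presheaf x ha hb ra rb hab
    exact (TopCat.Presheaf.germ_res_apply X.presheaf i₁ x hT ra).symm.trans
      ((congrArg (fun t : Γ(X, T) => X.presheaf.germ T x hT t) h).trans
        (TopCat.Presheaf.germ_res_apply X.presheaf i₂ x hT rb))
  · intro v
    obtain ⟨U, hx, r, rfl⟩ := TopCat.Presheaf.exists_germ_eq (Coh.structureModule X).presheaf v
    exact ⟨_, (h1 U hx r).symm⟩

theorem isoLocus_eq {F : X.Modules} (s : Coh.structureModule X ⟶ F) :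
    RefPow.isoLocus s = {x : X | Function.Bijective (genMap (SecTwist.val s ⊤) x trivial)} := by
  ext x
  rw [Set.mem_setOf, RefPow.mem_isoLocus]
  rw [show genMap (SecTwist.val s ⊤) x trivial = (RefHull.stalkMapₗ s x) ∘ (fun a => a •
    (Coh.structureModule X).presheaf.germ ⊤ x trivial
      ((1 : X.ringCatSheaf.obj.obj (op ⊤)) : (Coh.structureModule X).val.obj (op ⊤))) from
    funext fun a => (stalkMap_one_smul s x a).symm]
  exact (Function.Bijective.of_comp_iff _ (bijective_one_smul x)).symm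

theorem isOpen_isoLocus [IsLocallyNoetherian X] {F : X.Modules} (hF : Coh.IsCoh F)
    (s : Coh.structureModule X ⟶ F) : IsOpen (RefPow.isoLocus s) := by
  rw [isoLocus_eq]
  exact isOpen_setOf_generates hF _

end General

variable {X : Scheme.{u}} [IsIntegral X] [IsLocallyNoetherian X] [Nrm X]

/-- A global section of a rank one reflexive module generates at `y` iff its divisor avoids `y`. -/
theorem bijective_genMap_iff {F : X.Modules} {φ : Fnl F} {D : X → ℤ} (hg : Good φ D)
    (hg_coh : Coh.IsCoh F)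
    (hinj : ∀ y, Function.Injective (valAt φ y)) {U : X.Opens} (m : Γ(F, U)) {y : X} (hy : y ∈ U)
    (hc : valAt φ y (F.presheaf.germ U y hy m) ≠ 0) :
    Function.Bijective (genMap m y hy) ↔ ∀ z, z ⤳ y → coheight z = 1 →
      Scheme.ord (valAt φ y (F.presheaf.germ U y hy m)) z + D z = 0 := by
  have hval : ∀ z (hz : z ∈ U), valAt φ z (F.presheaf.germ U z hz m) =
      valAt φ y (F.presheaf.germ U y hy m) := fun z hz =>
    congrArg φ.toHom ((toEta_germ F _ hz m).trans (toEta_germ F _ hy m).symm)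
  constructor
  · intro hb z hzy hz
    have hzU : z ∈ U := hzy.mem_open U.isOpen hy
    have hge : -D z ≤ Scheme.ord (valAt φ y (F.presheaf.germ U y hy m)) z := by
      rcases hg.mem z hz (F.presheaf.germ U z hzU m) hz with h | h
      · exact absurd ((hval z hzU).symm.trans h) hc
      · rwa [hval z hzU] at h
    obtain ⟨b, hb0, hbo⟩ := exists_ord_eq z hz (-D z)
    obtain ⟨w, hw⟩ := hg.surj z hz b fun _ => Or.inr hbo.ge
    obtain ⟨_, ⟨V, hV, rfl⟩, hyV, hVU⟩ :=
      X.isBasis_affineOpens.exists_subset_of_mem_open (show y ∈ (U : Set X) from hy) U.isOpen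
    have hzV : z ∈ V := hzy.mem_open V.isOpen hyV
    obtain ⟨hq, -⟩ := hg_coh
    obtain ⟨g, n, hgp, hgn⟩ := AssPts.exists_germ_smul_eq F hV z hzV w
    obtain ⟨a, ha⟩ := hb.2 (F.presheaf.germ V y hyV n)
    simp only [genMap] at ha
    have e1 := congrArg (valAt φ y) ha
    rw [map_smul, Algebra.smul_def] at e1
    have e2 : valAt φ y (F.presheaf.germ V y hyV n) = valAt φ z (F.presheaf.germ V z hzV n) :=
      congrArg φ.toHom ((toEta_germ F _ hyV n).trans (toEta_germ F _ hzV n).symm)
    rw [e2, ← hgn, map_smul, Algebra.smul_def, hw] at e1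
    obtain ⟨gu, hgu⟩ := (AssPts.notMem_prime_iff hV z hzV g).1 hgp
    rw [← hgu] at e1
    obtain ⟨T, hyT, r, rfl⟩ := TopCat.Presheaf.exists_germ_eq X.presheaf a
    have hzT : z ∈ T := hzy.mem_open T.isOpen hyT
    rw [algebraMap_germ y hyT r, ← algebraMap_germ z hzT r] at e1
    have hane : algebraMap (X.presheaf.stalk z) X.functionField (X.presheaf.germ T z hzT r) ≠ 0 :=
      fun h0 => mul_ne_zero (gu.isUnit.map (algebraMap _ X.functionField)).ne_zero hb0
        (by rw [← e1, h0, zero_mul])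
    have e3 := congrArg (fun c => Scheme.ord c z) e1
    simp only at e3
    rw [Scheme.ord_mul hane hc, Scheme.ord_mul (gu.isUnit.map _).ne_zero hb0, ord_units, hbo] at e3
    have := ord_algebraMap_nonneg (z := z) (X.presheaf.germ T z hzT r) fun h0 =>
      hane (by rw [h0, map_zero])
    omega
  · intro h
    refine ⟨fun a b hab => IsFractionRing.injective (X.presheaf.stalk y) X.functionField ?_, fun v => ?_⟩
    · have := congrArg (valAt φ y) hab
      simp only [genMap, map_smul] at this
      rw [Algebra.smul_def, Algebra.smul_def] at this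
      exact mul_right_cancel₀ hc this
    · by_cases hv : valAt φ y v = 0
      · exact ⟨0, hinj y (by simp only [genMap]; rw [zero_smul, map_zero, hv])⟩
      obtain ⟨a, ha⟩ := mem_range_of_codim_one y
        (valAt φ y v / valAt φ y (F.presheaf.germ U y hy m)) fun z hzy hz => by
          obtain ⟨Uv, hyv, n, rfl⟩ := TopCat.Presheaf.exists_germ_eq F.presheaf v
          have hzv : z ∈ Uv := hzy.mem_open Uv.isOpen hyv
          have hv' : valAt φ z (F.presheaf.germ Uv z hzv n) = valAt φ y (F.presheaf.germ Uv y hyv n) :=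
            congrArg φ.toHom ((toEta_germ F _ hzv n).trans (toEta_germ F _ hyv n).symm)
          rw [mem_range_iff hz (div_ne_zero hv hc), div_eq_mul_inv, Scheme.ord_mul hv (inv_ne_zero hc),
            ord_inv z hc]
          rcases hg.mem z hz (F.presheaf.germ Uv z hzv n) hz with h' | h'
          · exact absurd (hv'.symm.trans h') hv
          rw [hv'] at h'
          have := h z hzy hz
          omega
      exact ⟨a, hinj y (by
        simp only [genMap]
        rw [map_smul, Algebra.smul_def, ha, div_mul_cancel₀ _ hc])⟩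

end Groth.Agent.RefDiv
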