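import Groth.Agent.RefDiv.Ord
import Groth.Prelude.Def_RefHull

/-!
# The divisorial sheaf `O(D)` inside the function field
-/

set_option autoImplicit false

noncomputable section

universe u

open CategoryTheory Limits AlgebraicGeometry TopologicalSpace Order Opposite

namespace Groth.Agent.RefDiv

variable {X : Scheme.{u}}

/-! ### Stalks of modules -/

theorem isIso_of_stalkMap_bijective {M N : X.Modules} (φ : M ⟶ N)
    (h : ∀ x, Function.Bijective (RefHull.stalkMapₗ φ x)) : IsIso φ := by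
  rw [Scheme.Modules.Hom.isIso_iff_isIso_app]
  intro U
  let f : (⟨M.presheaf, M.isSheaf⟩ : TopCat.Sheaf Ab X.carrier) ⟶ ⟨N.presheaf, N.isSheaf⟩ :=
    ⟨φ.mapPresheaf⟩
  rw [ConcreteCategory.isIso_iff_bijective]
  exact TopCat.Presheaf.app_bijective_of_stalkFunctor_map_bijective f U fun x _ => h x

variable [IsIntegral X]

/-- The function field as a module over every local ring. -/
abbrev KF (X : Scheme.{u}) [IsIntegral X] : X → Type u := fun _ => X.functionField

/-- The map from a stalk to the generic stalk. -/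
def toEta (M : X.Modules) (x : X) :
    M.presheaf.stalk x →+ M.presheaf.stalk (genericPoint X) :=
  (M.presheaf.stalkSpecializes (eta_spec x)).hom

theorem toEta_germ (M : X.Modules) {U : X.Opens} (x : X) (hx : x ∈ U) (s : Γ(M, U)) :
    toEta M x (M.presheaf.germ U x hx s) = M.presheaf.germ U (genericPoint X) (eta_mem hx) s :=
  TopCat.Presheaf.germ_stalkSpecializes_apply M.presheaf hx (eta_spec x) s

theorem toEta_smul (M : X.Modules) (x : X) (a : X.presheaf.stalk x) (v : M.presheaf.stalk x) :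
    toEta M x (a • v) = X.presheaf.stalkSpecializes (eta_spec x) a • toEta M x v := by
  obtain ⟨Ua, ha, r, rfl⟩ := TopCat.Presheaf.exists_germ_eq X.presheaf a
  obtain ⟨Uv, hv, m, rfl⟩ := TopCat.Presheaf.exists_germ_eq M.presheaf v
  rw [← TopCat.Presheaf.germ_res_apply X.presheaf (homOfLE (inf_le_left : Ua ⊓ Uv ≤ Ua)) x ⟨ha, hv⟩,
    ← TopCat.Presheaf.germ_res_apply M.presheaf (homOfLE (inf_le_right : Ua ⊓ Uv ≤ Uv)) x ⟨ha, hv⟩,
    ← Mero.germ_smul, toEta_germ, toEta_germ, TopCat.Presheaf.germ_stalkSpecializes_apply,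
    Mero.germ_smul]

theorem toEta_stalkMap {M N : X.Modules} (φ : M ⟶ N) (x : X) (v : M.presheaf.stalk x) :
    toEta N x (RefHull.stalkMapₗ φ x v) = RefHull.stalkMapₗ φ (genericPoint X) (toEta M x v) := by
  obtain ⟨U, hx, m, rfl⟩ := TopCat.Presheaf.exists_germ_eq M.presheaf v
  rw [RefHull.stalkMapₗ_germ, toEta_germ, toEta_germ, RefHull.stalkMapₗ_germ]

theorem toEta_eta (M : X.Modules) (v : M.presheaf.stalk (genericPoint X)) :
    toEta M (genericPoint X) v = v := by
  obtain ⟨U, hx, m, rfl⟩ := TopCat.Presheaf.exists_germ_eq M.presheaf v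
  exact toEta_germ M _ hx m

theorem algebraMap_eta (a : X.presheaf.stalk (genericPoint X)) :
    @algebraMap (X.presheaf.stalk (genericPoint X)) X.functionField _ _
      (stalkFunctionFieldAlgebra X (genericPoint X)) a = (a : X.functionField) := by
  obtain ⟨U, hx, r, rfl⟩ := TopCat.Presheaf.exists_germ_eq X.presheaf a
  exact algebraMap_germ _ hx r

/-- A linear functional on the generic stalk, with values in the function field. -/
structure Fnl (M : X.Modules) where
  /-- the underlying map -/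
  toHom : M.presheaf.stalk (genericPoint X) →+ X.functionField
  map_smul : ∀ (a : X.presheaf.stalk (genericPoint X)) (v : M.presheaf.stalk (genericPoint X)),
    toHom (a • v) = HMul.hMul (α := X.functionField) a (toHom v)

/-- Evaluation of a functional on the generic stalk at elements of an arbitrary stalk. -/
def valAt {M : X.Modules} (φ : Fnl M) (x : X) :
    M.presheaf.stalk x →ₗ[X.presheaf.stalk x] X.functionField where
  toFun v := φ.toHom (toEta M x v)
  map_add' _ _ := by rw [map_add, map_add]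
  map_smul' a v := by
    rw [toEta_smul, φ.map_smul, RingHom.id_apply, Algebra.smul_def]
    rfl

theorem valAt_eta {M : X.Modules} (φ : Fnl M) (v : M.presheaf.stalk (genericPoint X)) :
    valAt φ (genericPoint X) v = φ.toHom v :=
  congrArg φ.toHom (toEta_eta M v)

theorem valAt_toEta {M : X.Modules} (φ : Fnl M) (x : X) (v : M.presheaf.stalk x) :
    φ.toHom (toEta M x v) = valAt φ x v := rfl

/-! ### The model -/

section Model

variable [IsLocallyNoetherian X] [Nrm X]

/-- The order condition of `O(D)`. -/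
def Mem (D : X → ℤ) (x : X) (c : X.functionField) : Prop :=
  coheight x = 1 → c = 0 ∨ -D x ≤ Scheme.ord c x

theorem Mem.add {D : X → ℤ} {x : X} {c d : X.functionField} (hc : Mem D x c) (hd : Mem D x d) :
    Mem D x (c + d) := fun hx => by
  rcases hc hx with rfl | hc'
  · simpa using hd hx
  rcases hd hx with rfl | hd'
  · simpa using hc hx
  by_cases h : c + d = 0
  · exact Or.inl h
  have := isDVR x hx
  exact Or.inr ((le_min hc' hd').trans (Scheme.ord_add h))

theorem Mem.smul {D : X → ℤ} {x : X} (a : X.presheaf.stalk x) {c : X.functionField}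
    (hc : Mem D x c) : Mem D x (a • c) := fun hx => by
  rcases hc hx with rfl | hc'
  · exact Or.inl (smul_zero _)
  by_cases ha : a = 0
  · exact Or.inl (by rw [ha, zero_smul])
  by_cases hc0 : c = 0
  · exact Or.inl (by rw [hc0, smul_zero])
  have ha' : algebraMap (X.presheaf.stalk x) X.functionField a ≠ 0 := fun h => ha
    (IsFractionRing.injective _ X.functionField (h.trans (map_zero _).symm))
  refine Or.inr ?_
  rw [Algebra.smul_def, Scheme.ord_mul ha' hc0]
  linarith [ord_algebraMap_nonneg a ha (z := x)]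

theorem mem_zero {D : X → ℤ} {x : X} : Mem D x 0 := fun _ => Or.inl rfl

/-- Constant families satisfying the order conditions. -/
def odLoc (D : X → ℤ) : TopCat.LocalPredicate (KF X) where
  pred {U} f := (∀ x y : U, f x = f y) ∧ ∀ x : U, Mem D x.1 (f x)
  res {V U} i f h := ⟨fun x y => h.1 _ _, fun x => h.2 (i x)⟩
  locality {U} f h := by
    refine ⟨fun x y => ?_, fun x => ?_⟩
    · obtain ⟨Vx, hxV, ix, hx⟩ := h x
      obtain ⟨Vy, hyV, iy, hy⟩ := h y
      exact (hx.1 ⟨x.1, hxV⟩ ⟨genericPoint X, eta_mem hxV⟩).trans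
        (hy.1 ⟨genericPoint X, eta_mem hyV⟩ ⟨y.1, hyV⟩)
    · obtain ⟨V, hxV, i, hV⟩ := h x
      exact hV.2 ⟨x.1, hxV⟩

instance (D : X → ℤ) : Mero.IsModPred (odLoc D) where
  zero U := ⟨fun _ _ => rfl, fun _ => mem_zero⟩
  add U f g hf hg := ⟨fun x y => by rw [Pi.add_apply, Pi.add_apply, hf.1 x y, hg.1 x y],
    fun x => (hf.2 x).add (hg.2 x)⟩
  smul U r f hf := ⟨fun x y => by
    dsimp only
    rw [Algebra.smul_def, Algebra.smul_def, algebraMap_germ, algebraMap_germ, hf.1 x y],
    fun x => (hf.2 x).smul _⟩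

/-- The divisorial sheaf. -/
def OD (D : X → ℤ) : X.Modules := Mero.modOf (odLoc D)

variable (D : X → ℤ)

theorem sec_const {U : X.Opens} (s : Γ(OD D, U)) (x y : U) : s.1 x = s.1 y := s.2.1 x y

theorem sec_mem {U : X.Opens} (s : Γ(OD D, U)) (x : U) : Mem D x.1 (s.1 x) := s.2.2 x

/-- The section with constant value `c`. -/
def sec {U : X.Opens} (c : X.functionField) (h : ∀ z ∈ U, Mem D z c) : Γ(OD D, U) :=
  ⟨fun _ => c, fun _ _ => rfl, fun x => h x.1 x.2⟩

/-- The cocone evaluating sections at a point. -/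
def evCocone (x : X) : Cocone ((OpenNhds.inclusion x).op ⋙ (OD D).presheaf) where
  pt := AddCommGrpCat.of X.functionField
  ι :=
    { app := fun V => AddCommGrpCat.ofHom
        { toFun := fun g => (g : Γ(OD D, V.unop.1)).1 ⟨x, V.unop.2⟩
          map_zero' := rfl
          map_add' := fun _ _ => rfl }
      naturality := fun V W i => by ext g; rfl }

/-- Evaluation, additively. -/
def evAdd (x : X) : (OD D).presheaf.stalk x ⟶ AddCommGrpCat.of X.functionField :=
  colimit.desc _ (evCocone D x)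

theorem evAdd_germ {U : X.Opens} (x : X) (hx : x ∈ U) (s : Γ(OD D, U)) :
    (evAdd D x).hom ((OD D).presheaf.germ U x hx s) = s.1 ⟨x, hx⟩ := by
  change ((OD D).presheaf.germ U x hx ≫ evAdd D x).hom s = _
  have e : (OD D).presheaf.germ U x hx ≫ evAdd D x = (evCocone D x).ι.app (op ⟨U, hx⟩) :=
    colimit.ι_desc _ _
  rw [e]
  rfl

/-- Evaluation `O(D)_x → K`. -/
def evK (x : X) : (OD D).presheaf.stalk x →ₗ[X.presheaf.stalk x] X.functionField where
  toFun := (evAdd D x).hom
  map_add' := map_add _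
  map_smul' a v := by
    obtain ⟨Ua, ha, r, rfl⟩ := TopCat.Presheaf.exists_germ_eq X.presheaf a
    obtain ⟨Uv, hv, m, rfl⟩ := TopCat.Presheaf.exists_germ_eq (OD D).presheaf v
    rw [← TopCat.Presheaf.germ_res_apply X.presheaf (homOfLE (inf_le_left : Ua ⊓ Uv ≤ Ua)) x ⟨ha, hv⟩,
      ← TopCat.Presheaf.germ_res_apply (OD D).presheaf (homOfLE (inf_le_right : Ua ⊓ Uv ≤ Uv)) x ⟨ha, hv⟩,
      ← Mero.germ_smul, evAdd_germ, evAdd_germ]
    rfl

@[simp] theorem evK_germ {U : X.Opens} (x : X) (hx : x ∈ U) (s : Γ(OD D, U)) :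
    evK D x ((OD D).presheaf.germ U x hx s) = s.1 ⟨x, hx⟩ := evAdd_germ D x hx s

theorem evK_toEta (x : X) (v : (OD D).presheaf.stalk x) :
    evK D (genericPoint X) (toEta (OD D) x v) = evK D x v := by
  obtain ⟨U, hx, s, rfl⟩ := TopCat.Presheaf.exists_germ_eq (OD D).presheaf v
  rw [toEta_germ, evK_germ, evK_germ]
  exact sec_const D s _ _

theorem evK_injective (x : X) : Function.Injective (evK D x) := by
  rw [← LinearMap.ker_eq_bot, LinearMap.ker_eq_bot']
  intro v hv
  obtain ⟨U, hx, s, rfl⟩ := TopCat.Presheaf.exists_germ_eq (OD D).presheaf v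
  rw [evK_germ] at hv
  have : s = 0 := Subtype.ext (funext fun y => (sec_const D s y ⟨x, hx⟩).trans hv)
  rw [this, map_zero]

theorem mem_of_evK (x : X) (v : (OD D).presheaf.stalk x) {z : X} (hz : z ⤳ x) :
    Mem D z (evK D x v) := by
  obtain ⟨U, hx, s, rfl⟩ := TopCat.Presheaf.exists_germ_eq (OD D).presheaf v
  rw [evK_germ, sec_const D s ⟨x, hx⟩ ⟨z, hz.mem_open U.isOpen hx⟩]
  exact sec_mem D s ⟨z, hz.mem_open U.isOpen hx⟩

variable {D} (hD : LocFin D)
include hD

theorem exists_evK (x : X) {c : X.functionField}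
    (h : ∀ z, z ⤳ x → coheight z = 1 → Mem D z c) : ∃ v, evK D x v = c := by
  obtain ⟨U, hxU, hfin⟩ := (hD.add (locFin_ord c)) x
  obtain ⟨U', hxU', hfin'⟩ := hD x
  let bad : Set X := {z | z ∈ U ⊓ U' ∧ coheight z = 1 ∧ ¬ Mem D z c}
  have hbad : bad.Finite := (hfin.union hfin').subset fun z hz => by
    obtain ⟨⟨hzU, hzU'⟩, hz1, hm⟩ := hz
    by_cases hDz : D z = 0
    · refine Or.inl ⟨hzU, hz1, fun h0 => hm fun _ => ?_⟩
      simp only [Pi.add_apply, hDz, zero_add] at h0
      exact Or.inr (by rw [hDz, h0, neg_zero])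
    · exact Or.inr ⟨hzU', hz1, hDz⟩
  let C : Set X := ⋃ z ∈ bad, closure {z}
  have hC : IsClosed C := hbad.isClosed_biUnion fun _ _ => isClosed_closure
  have hxC : x ∉ C := fun hx => by
    simp only [C, Set.mem_iUnion] at hx
    obtain ⟨z, hz, hzx⟩ := hx
    exact hz.2.2 (h z (specializes_iff_mem_closure.mpr hzx) hz.2.1)
  let V : X.Opens := (U ⊓ U') ⊓ ⟨Cᶜ, hC.isOpen_compl⟩
  have hV : ∀ z ∈ V, Mem D z c := fun z hz hz1 => by
    by_contra hm
    exact hz.2 (Set.mem_biUnion (show z ∈ bad from ⟨hz.1, hz1, fun h' => hm (h' hz1)⟩)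
      (subset_closure rfl))
  exact ⟨(OD D).presheaf.germ V x ⟨⟨hxU, hxU'⟩, hxC⟩ (sec D c hV), evK_germ D x _ _⟩

theorem evK_eta_bijective : Function.Bijective (evK D (genericPoint X)) :=
  ⟨evK_injective D _, fun c => exists_evK hD _ fun z hz hz1 => by
    have h0 : z = genericPoint X := (hz.antisymm (eta_spec z)).eq
    exact absurd hz1 (by
      rw [h0]
      simp [show coheight (genericPoint X) = 0 from coheight_eq_zero.mpr fun y _ => eta_spec y])⟩

omit hD

variable (D)

/-- The evaluation functional of `O(D)`. -/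
def fnlOD : Fnl (OD D) where
  toHom := (evAdd D (genericPoint X)).hom
  map_smul a v := by
    obtain ⟨Ua, ha, r, rfl⟩ := TopCat.Presheaf.exists_germ_eq X.presheaf a
    obtain ⟨Uv, hv, m, rfl⟩ := TopCat.Presheaf.exists_germ_eq (OD D).presheaf v
    rw [← TopCat.Presheaf.germ_res_apply X.presheaf (homOfLE (inf_le_left : Ua ⊓ Uv ≤ Ua))
        (genericPoint X) ⟨ha, hv⟩,
      ← TopCat.Presheaf.germ_res_apply (OD D).presheaf (homOfLE (inf_le_right : Ua ⊓ Uv ≤ Uv))
        (genericPoint X) ⟨ha, hv⟩,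
      ← Mero.germ_smul, evAdd_germ, evAdd_germ]
    refine (@Algebra.smul_def _ _ _ _ (stalkFunctionFieldAlgebra X (genericPoint X)) _ _).trans ?_
    exact congrArg (fun t : X.functionField => t * _) (algebraMap_eta _)

theorem valAt_fnlOD (x : X) (v : (OD D).presheaf.stalk x) :
    valAt (fnlOD D) x v = evK D x v := evK_toEta D x v

/-- A morphism into `O(D)` from a functional on the generic stalk. -/
def mkHom {M : X.Modules}
    (φ : Fnl M)
    (hφ : ∀ z, coheight z = 1 → ∀ v : M.presheaf.stalk z, Mem D z (valAt φ z v)) : M ⟶ OD D :=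
  ⟨PresheafOfModules.homMk
    { app := fun U => AddCommGrpCat.ofHom
        { toFun := fun (s : Γ(M, U.unop)) => (⟨fun y => valAt φ y.1 (M.presheaf.germ U.unop y.1 y.2 s),
            fun x y => congrArg φ.toHom ((toEta_germ M _ x.2 s).trans (toEta_germ M _ y.2 s).symm),
            fun y hy => hφ y.1 hy _ hy⟩ : Γ(OD D, U.unop))
          map_zero' := Subtype.ext (funext fun y =>
            (congrArg (valAt φ y.1) (map_zero _)).trans (map_zero _))
          map_add' := fun s t => Subtype.ext (funext fun y =>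
            (congrArg (valAt φ y.1) (map_add _ s t)).trans (map_add _ _ _)) }
      naturality := fun {U V} i => by
        ext s
        refine Subtype.ext (funext fun y => ?_)
        exact congrArg (valAt φ y.1) (TopCat.Presheaf.germ_res_apply' M.presheaf i y.1 y.2 s) }
    (fun U r s => Subtype.ext <| funext fun y =>
      (congrArg (valAt φ y.1) (Mero.germ_smul M U.unop y.1 y.2 r s)).trans
        (map_smul (valAt φ y.1) _ _))⟩

theorem evK_mkHom {M : X.Modules}
    (φ : Fnl M)
    (hφ : ∀ z, coheight z = 1 → ∀ v : M.presheaf.stalk z, Mem D z (valAt φ z v))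
    (x : X) (v : M.presheaf.stalk x) :
    evK D x (RefHull.stalkMapₗ (mkHom D φ hφ) x v) = valAt φ x v := by
  obtain ⟨U, hx, s, rfl⟩ := TopCat.Presheaf.exists_germ_eq M.presheaf v
  rw [RefHull.stalkMapₗ_germ, evK_germ]
  rfl

theorem evK_stalkMap_eta {M : X.Modules} (ψ : M ⟶ OD D) (x : X) (v : M.presheaf.stalk x) :
    evK D x (RefHull.stalkMapₗ ψ x v) =
      evK D (genericPoint X) (RefHull.stalkMapₗ ψ (genericPoint X) (toEta M x v)) := by
  rw [← evK_toEta, toEta_stalkMap]

theorem isIso_of_valAt {M : X.Modules} (ψ : M ⟶ OD D)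
    (φ : Fnl M)
    (hψ : ∀ x v, evK D x (RefHull.stalkMapₗ ψ x v) = valAt φ x v)
    (hinj : ∀ x, Function.Injective (valAt φ x))
    (hsurj : ∀ (x : X) (c : X.functionField), (∀ z, z ⤳ x → coheight z = 1 → Mem D z c) →
      ∃ v, valAt φ x v = c) : IsIso ψ := by
  refine isIso_of_stalkMap_bijective ψ fun x => ⟨fun a b hab => hinj x ?_, fun w => ?_⟩
  · rw [← hψ, ← hψ, hab]
  · obtain ⟨v, hv⟩ := hsurj x (evK D x w) fun z hz _ => mem_of_evK D x w hz
    exact ⟨v, evK_injective D x ((hψ x v).trans hv)⟩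

end Model

end Groth.Agent.RefDiv
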