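import Groth.Agent.RefDiv.Pow

/-!
# When is the locus of generation of a section affine over the scheme
-/

set_option autoImplicit false

noncomputable section

universe u

open CategoryTheory Limits AlgebraicGeometry TopologicalSpace Order Opposite
open Groth.Agent.QCohBase

namespace Groth.Agent.RefDiv

variable {X : Scheme.{u}} [IsIntegral X] [IsLocallyNoetherian X] [Nrm X]
variable {F : X.Modules} {s : Coh.structureModule X ⟶ F} {φ : Fnl F} {E : X → ℤ} {U : X.Opens}

/-- The submodule of possible values at `x` in degree `n`. -/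
abbrev valRange {M : X.Modules} (ψ : Fnl M) (x : X) : Submodule (X.presheaf.stalk x) X.functionField :=
  LinearMap.range (valAt ψ x)

theorem mem_smul_top_iff {n : ℕ} {ψ : Fnl (RefPow.refPow F n)} (hψ : Emb ψ (fun z => (n : ℤ) * E z))
    (h1 : ψ.toHom (RefPow.sPowGerm s n (genericPoint X)) = 1) (x : X) :
    RefPow.sPowGerm s n x ∈ IsLocalRing.maximalIdeal (X.presheaf.stalk x) •
      (⊤ : Submodule (X.presheaf.stalk x) ((RefPow.refPow F n).presheaf.stalk x)) ↔
    (1 : X.functionField) ∈ IsLocalRing.maximalIdeal (X.presheaf.stalk x) • valRange ψ x := by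
  have h : valAt ψ x (RefPow.sPowGerm s n x) = 1 :=
    (valAt_germ ψ x (show x ∈ (⊤ : X.Opens) from trivial) _).trans h1
  rw [valRange, LinearMap.range_eq_map, ← Submodule.map_smul'', Submodule.mem_map, ← h]
  exact ⟨fun hm => ⟨_, hm, rfl⟩, fun ⟨w, hw, he⟩ => hψ.inj x he ▸ hw⟩

variable (hU : ∀ y : X, y ∈ U ↔ ∀ z, z ⤳ y → coheight z = 1 → E z = 0)
include hU

theorem pos_of_notMem (hpos : ∀ z, 0 ≤ E z) {z : X} (hz : coheight z = 1) (hzU : z ∉ U) : 1 ≤ E z := by
  by_contra h
  refine hzU ((hU z).mpr fun w hw hw1 => ?_)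
  rw [eq_of_specializes_codim_one hw1 hz hw]
  have := hpos z
  omega

/-- The affineness criterion, on one affine open. -/
theorem isAffineOpen_inf (hE : LocFin E) {V : X.Opens} (hV : IsAffineOpen V)
    (hcond : ∀ v ∈ V, v ∉ U → ∃ n : ℕ, ∃ ψ : Fnl (RefPow.refPow F n),
      Emb ψ (fun z => (n : ℤ) * E z) ∧
      (1 : X.functionField) ∈ IsLocalRing.maximalIdeal (X.presheaf.stalk v) • valRange ψ v) :
    IsAffineOpen (U ⊓ V) := by
  by_cases hne : ∃ p, p ∈ U ⊓ V
  swap
  · have : U ⊓ V = ⊥ := Opens.ext (Set.ext fun p => ⟨fun hp => absurd ⟨p, hp⟩ hne, fun hp => hp.elim⟩)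
    rw [this]; exact isAffineOpen_bot X
  obtain ⟨p₀, hp₀⟩ := hne
  let W := U ⊓ V
  have hWV : W ≤ V := inf_le_right
  let res : Γ(X, V) →+* Γ(X, W) := ores hWV
  refine isAffineOpen_of_isAffineOpen_basicOpen W (res '' {h : Γ(X, V) | X.basicOpen h ≤ U}) ?_ ?_
  swap
  · rintro _ ⟨h, hh, rfl⟩
    have : X.basicOpen (res h) = X.basicOpen h := by
      rw [show res h = X.presheaf.map (homOfLE hWV).op h from rfl, Scheme.basicOpen_res]
      exact inf_eq_right.mpr (le_inf hh (X.basicOpen_le h))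
    rw [this]
    exact hV.basicOpen h
  by_contra hspan
  obtain ⟨P, hP, hle⟩ := Ideal.exists_le_maximal _ hspan
  let q : PrimeSpectrum Γ(X, V) := ⟨P.comap res, Ideal.IsPrime.comap _⟩
  let v : X := hV.fromSpec q
  have hvV : v ∈ V := hV.range_fromSpec.le ⟨q, rfl⟩
  have hvq : hV.primeIdealOf ⟨v, hvV⟩ = q := by
    apply hV.fromSpec.isOpenEmbedding.injective
    exact hV.fromSpec_primeIdealOf ⟨v, hvV⟩
  have hres : ∀ r : Γ(X, V), X.presheaf.germ W (genericPoint X) (eta_mem hp₀) (res r) =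
      X.presheaf.germ V (genericPoint X) (eta_mem hvV) r := fun r =>
    TopCat.Presheaf.germ_res_apply X.presheaf _ _ _ r
  by_cases hvU : v ∈ U
  · obtain ⟨h, hh, hvh⟩ := hV.exists_basicOpen_le (V := U) ⟨v, hvU⟩ hvV
    have h1 : h ∉ q.asIdeal := hvq ▸ (AssPts.notMem_prime_iff hV v hvV h).2
      ((Scheme.mem_basicOpen X h v hvV).mp hvh)
    exact h1 (hle (Ideal.subset_span ⟨h, hh, rfl⟩))
  obtain ⟨n, ψ, hψ, hone⟩ := hcond v hvV hvU
  letI : Algebra Γ(X, V) (X.presheaf.stalk v) := TopCat.Presheaf.algebra_section_stalk X.presheaf ⟨v, hvV⟩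
  have hlocv : IsLocalization.AtPrime (X.presheaf.stalk v) q.asIdeal := by
    have := hV.isLocalization_stalk ⟨v, hvV⟩
    rw [hvq] at this
    exact this
  have key : ∀ c : X.functionField, c ∈ IsLocalRing.maximalIdeal (X.presheaf.stalk v) • valRange ψ v →
      ∃ g : Γ(X, V), g ∉ q.asIdeal ∧ ∃ b ∈ Ideal.map res q.asIdeal,
        X.presheaf.germ W (genericPoint X) (eta_mem hp₀) b =
          HMul.hMul (α := X.functionField) (X.presheaf.germ V (genericPoint X) (eta_mem hvV) g) c := by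
    intro c hc
    refine Submodule.smul_induction_on hc ?_ ?_
    · rintro a ha _ ⟨w, rfl⟩
      obtain ⟨⟨r, g⟩, hrg⟩ := IsLocalization.surj q.asIdeal.primeCompl a
      change a * X.presheaf.germ V v hvV g.1 = X.presheaf.germ V v hvV r at hrg
      have hr : r ∈ q.asIdeal := by
        by_contra hr
        rw [← hvq] at hr
        have hu := (AssPts.notMem_prime_iff hV v hvV r).1 hr
        rw [← hrg] at hu
        exact (IsLocalRing.mem_maximalIdeal a).mp ha (isUnit_of_mul_isUnit_left hu)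
      obtain ⟨w0, hw0⟩ := exists_evK (hE.nsmul n) v (c := valAt ψ v w) fun z hzv hz => by
        obtain ⟨T, hvT, t, rfl⟩ := TopCat.Presheaf.exists_germ_eq (RefPow.refPow F n).presheaf w
        rw [valAt_germ ψ v hvT, ← valAt_germ ψ z (hzv.mem_open T.isOpen hvT)]
        exact hψ.good.mem z hz _
      haveI := (isCoh_OD (hE.nsmul n)).1
      obtain ⟨g', t, hg', ht⟩ := AssPts.exists_germ_smul_eq (OD fun z => (n : ℤ) * E z) hV v hvV w0
      have hval : t.1 ⟨genericPoint X, eta_mem hvV⟩ =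
          X.presheaf.germ V (genericPoint X) (eta_mem hvV) g' * valAt ψ v w := by
        have e := congrArg (evK (fun z => (n : ℤ) * E z) v) ht
        rw [map_smul, evK_germ, hw0, Algebra.smul_def, algebraMap_germ] at e
        rw [sec_const _ t ⟨genericPoint X, eta_mem hvV⟩ ⟨v, hvV⟩]
        exact e.symm
      obtain ⟨b, hb⟩ := exists_function hp₀ (c := t.1 ⟨genericPoint X, eta_mem hvV⟩) fun y hy =>
        mem_range_of_codim_one y _ fun z hzy hz => by
          have hzW : z ∈ W := hzy.mem_open W.isOpen hy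
          rw [sec_const _ t ⟨genericPoint X, eta_mem hvV⟩ ⟨z, hWV hzW⟩]
          by_cases h0 : t.1 ⟨z, hWV hzW⟩ = 0
          · rw [h0]; exact zero_mem _
          rw [mem_range_iff hz h0]
          rcases sec_mem _ t ⟨z, hWV hzW⟩ hz with h | h
          · exact absurd h h0
          · dsimp only at h
            rw [(hU z).mp hzW.1 z specializes_rfl hz, mul_zero, neg_zero] at h
            exact h
      refine ⟨g.1 * g', q.isPrime.mul_notMem g.2 (hvq ▸ hg'), b * res r,
        Ideal.mul_mem_left _ b (Ideal.mem_map_of_mem res hr), ?_⟩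
      rw [map_mul, hb, hval, hres, map_mul, Algebra.smul_def]
      have e := congrArg (algebraMap (X.presheaf.stalk v) X.functionField) hrg
      rw [map_mul, algebraMap_germ, algebraMap_germ] at e
      rw [← e]
      ring
    · rintro c d ⟨g, hg, b, hb, hbe⟩ ⟨g', hg', b', hb', hbe'⟩
      refine ⟨g * g', q.isPrime.mul_notMem hg hg', res g' * b + res g * b',
        add_mem (Ideal.mul_mem_left _ _ hb) (Ideal.mul_mem_left _ _ hb'), ?_⟩
      rw [map_add, map_mul, map_mul, hres, hres, hbe, hbe', map_mul]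
      ring
  obtain ⟨g, hg, b, hb, hbe⟩ := key 1 hone
  rw [mul_one] at hbe
  have hbg : b = res g := functions_ext hp₀ (hbe.trans (hres g).symm)
  refine hg ?_
  change res g ∈ P
  rw [← hbg]
  exact (Ideal.map_le_iff_le_comap.mpr le_rfl) hb

/-- If the intersection with an affine open is affine, some power of the section vanishes at each outside point. -/
theorem exists_mem_of_isAffineOpen (hE : LocFin E) (hpos : ∀ z, 0 ≤ E z) {V : X.Opens}
    (hV : IsAffineOpen V) {x : X} (hxV : x ∈ V) (hxU : x ∉ U) (hW : IsAffineOpen (U ⊓ V))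
    (hne : genericPoint X ∈ U) :
    ∃ N : ℕ, ∀ n ≥ N, ∀ (ψ : Fnl (RefPow.refPow F n)), Emb ψ (fun z => (n : ℤ) * E z) →
      (1 : X.functionField) ∈ IsLocalRing.maximalIdeal (X.presheaf.stalk x) • valRange ψ x := by
  let W := U ⊓ V
  have hWV : W ≤ V := inf_le_right
  have hη : genericPoint X ∈ W := ⟨hne, eta_mem hxV⟩
  let res : Γ(X, V) →+* Γ(X, W) := ores hWV
  let p := (hV.primeIdealOf ⟨x, hxV⟩).asIdeal
  have htop : (1 : Γ(X, W)) ∈ Ideal.map res p := by
    by_contra h1
    obtain ⟨P, hP, hle⟩ := Ideal.exists_le_maximal (Ideal.map res p) (fun h => h1 (by rw [h]; trivial))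
    let y : X := hW.fromSpec ⟨P, hP.isPrime⟩
    have hyW : y ∈ W := hW.range_fromSpec.le ⟨_, rfl⟩
    have hyP : hW.primeIdealOf ⟨y, hyW⟩ = ⟨P, hP.isPrime⟩ := by
      apply hW.fromSpec.isOpenEmbedding.injective
      exact hW.fromSpec_primeIdealOf ⟨y, hyW⟩
    have hsub : hV.primeIdealOf ⟨x, hxV⟩ ≤ hV.primeIdealOf ⟨y, hWV hyW⟩ := fun r hr => by
      by_contra hry
      have hu := (AssPts.notMem_prime_iff hV y (hWV hyW) r).1 hry
      have hu' : IsUnit (X.presheaf.germ W y hyW (res r)) := by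
        rwa [show X.presheaf.germ W y hyW (res r) = X.presheaf.germ V y (hWV hyW) r from
          TopCat.Presheaf.germ_res_apply X.presheaf _ _ _ r]
      have := (AssPts.notMem_prime_iff hW y hyW (res r)).2 hu'
      rw [hyP] at this
      exact this (hle (Ideal.mem_map_of_mem res hr))
    have hxy : x ⤳ y := by
      have := ((PrimeSpectrum.le_iff_specializes _ _).mp hsub).map hV.fromSpec.continuous
      rwa [hV.fromSpec_primeIdealOf, hV.fromSpec_primeIdealOf] at this
    exact hxU (hxy.mem_open U.isOpen hyW.1)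
  obtain ⟨k, f, g, hsum⟩ := Submodule.mem_span_set'.mp htop
  let germW : Γ(X, W) →+* X.functionField := (X.presheaf.germ W (genericPoint X) hη).hom
  have hbad : ∀ i, ∃ N : ℕ, ∀ n ≥ N, ∀ z ∈ V, coheight z = 1 →
      Mem (fun w => (n : ℤ) * E w) z (germW (f i)) := by
    intro i
    obtain ⟨N, hN⟩ := ((finite_bad (locFin_ord (germW (f i))) hV).image
      fun z => (-Scheme.ord (germW (f i)) z).toNat).bddAbove
    refine ⟨N, fun n hn z hzV hz _ => ?_⟩
    by_cases h0 : germW (f i) = 0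
    · exact Or.inl h0
    refine Or.inr ?_
    dsimp only
    have hn' : (N : ℤ) ≤ (n : ℤ) := by exact_mod_cast hn
    have hEz := hpos z
    have hnE : 0 ≤ (n : ℤ) * E z := mul_nonneg (by omega) hEz
    by_cases hzU : z ∈ U
    · have hge : 0 ≤ Scheme.ord (germW (f i)) z := (mem_range_iff hz h0).mp
        ⟨X.presheaf.germ W z ⟨hzU, hzV⟩ (f i), algebraMap_germ z _ _⟩
      omega
    by_cases hord : Scheme.ord (germW (f i)) z = 0
    · omega
    have hle := hN (Set.mem_image_of_mem (fun z => (-Scheme.ord (germW (f i)) z).toNat)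
      (show z ∈ {z : X | z ∈ V ∧ coheight z = 1 ∧ Scheme.ord (germW (f i)) z ≠ 0} from ⟨hzV, hz, hord⟩))
    have h1 : (n : ℤ) ≤ (n : ℤ) * E z :=
      le_mul_of_one_le_right (by omega) (pos_of_notMem hU hpos hz hzU)
    have h2 : -Scheme.ord (germW (f i)) z ≤ (N : ℤ) := le_trans (Int.self_le_toNat _) (by exact_mod_cast hle)
    omega
  choose N hN using hbad
  refine ⟨Finset.univ.sup N, fun n hn ψ hψ => ?_⟩
  have hone : ∑ i, germW (f i) * germW (g i : Γ(X, W)) = 1 := by
    have := congrArg germW hsum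
    simp only [map_sum, smul_eq_mul, map_mul, map_one] at this
    exact this
  rw [← hone]
  refine Submodule.sum_mem _ fun i _ => ?_
  obtain ⟨r, hr, hri⟩ := (g i).2
  have hgi : germW (g i : Γ(X, W)) = algebraMap (X.presheaf.stalk x) X.functionField (X.presheaf.germ V x hxV r) := by
    rw [algebraMap_germ, ← hri]
    exact TopCat.Presheaf.germ_res_apply X.presheaf _ _ _ r
  rw [hgi, mul_comm, ← Algebra.smul_def]
  refine Submodule.smul_mem_smul ?_ (hψ.surjAll x _ fun z hzx hz =>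
    hN i n (le_trans (Finset.le_sup (Finset.mem_univ i)) hn) z (hzx.mem_open V.isOpen hxV) hz)
  by_contra hu
  exact (AssPts.notMem_prime_iff hV x hxV r).2 (not_not.mp ((not_congr (IsLocalRing.mem_maximalIdeal _)).mp hu)) hr

omit hU

theorem isAffineHom_iff (hF : RefHull.IsRef1 F) (hUs : (U : Set X) = RefPow.isoLocus s) :
    IsAffineHom U.ι ↔ ∀ x : X, x ∉ U → ∃ n : ℕ, 0 < n ∧
      RefPow.sPowGerm s n x ∈ IsLocalRing.maximalIdeal (X.presheaf.stalk x) •
        (⊤ : Submodule (X.presheaf.stalk x) ((RefPow.refPow F n).presheaf.stalk x)) := by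
  have hpre : ∀ V : X.Opens, U.ι ''ᵁ (U.ι ⁻¹ᵁ V) = U ⊓ V := fun V => by
    rw [U.ι.image_preimage_eq_opensRange_inf, Scheme.Opens.opensRange_ι]
  by_cases h0 : F.presheaf.germ ⊤ (genericPoint X) trivial (SecTwist.val s ⊤) = 0
  · have hUe : (U : Set X) = ∅ := hUs.trans (isoLocus_empty s hF.2.2 h0 (torsionFree_of_ref1 hF))
    constructor
    · intro _ x _
      refine ⟨1, one_pos, ?_⟩
      have : RefPow.sPowGerm s 1 x = 0 := by
        simp only [RefPow.sPowGerm]
        rw [RefPow.sPow_one]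
        exact (congrArg (F.presheaf.germ ⊤ x trivial) (section_eq_zero hF _ h0)).trans (map_zero _)
      rw [this]; exact zero_mem _
    · intro _
      refine ⟨fun V hV => ?_⟩
      rw [← U.ι.isAffineOpen_iff_of_isOpenImmersion, hpre]
      have : U ⊓ V = ⊥ := Opens.ext (Set.ext fun p =>
        ⟨fun hp => ((hUe ▸ hp.1 : p ∈ (∅ : Set X))).elim, fun hp => hp.elim⟩)
      rw [this]; exact isAffineOpen_bot X
  obtain ⟨φ, E, hE, hpos, -, hφ, h1⟩ := exists_emb_section hF (SecTwist.val s ⊤) h0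
  have hU : ∀ y : X, y ∈ U ↔ ∀ z, z ⤳ y → coheight z = 1 → E z = 0 := fun y => by
    rw [← mem_isoLocus_iff s hF.1 hφ h1 y, ← hUs]; rfl
  have hηU : genericPoint X ∈ U := (hU _).mpr fun z hz hz1 => by
    have := (hz.antisymm (eta_spec z)).eq
    subst this
    simp [show coheight (genericPoint X) = 0 from coheight_eq_zero.mpr fun y _ => eta_spec y] at hz1
  constructor
  · intro hA x hxU
    obtain ⟨_, ⟨V, hV, rfl⟩, hxV, -⟩ :=
      X.isBasis_affineOpens.exists_subset_of_mem_open (Set.mem_univ x) isOpen_univ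
    have hW : IsAffineOpen (U ⊓ V) := by
      rw [← hpre V, U.ι.isAffineOpen_iff_of_isOpenImmersion]
      exact hV.preimage U.ι
    obtain ⟨N, hN⟩ := exists_mem_of_isAffineOpen (F := F) hU hE hpos hV hxV hxU hW hηU
    obtain ⟨ψ, hψ, hψ1⟩ := (exists_pow s hF.2.2 hE hφ h1 (N + 1)).1
    exact ⟨N + 1, N.succ_pos, (mem_smul_top_iff hψ hψ1 x).mpr (hN (N + 1) N.le_succ ψ hψ)⟩
  · intro h
    refine ⟨fun V hV => ?_⟩
    rw [← U.ι.isAffineOpen_iff_of_isOpenImmersion, hpre]
    refine isAffineOpen_inf hU hE (F := F) hV fun v hvV hvU => ?_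
    obtain ⟨n, -, hn⟩ := h v hvU
    obtain ⟨ψ, hψ, hψ1⟩ := (exists_pow s hF.2.2 hE hφ h1 n).1
    exact ⟨n, ψ, hψ, (mem_smul_top_iff hψ hψ1 v).mp hn⟩

end Groth.Agent.RefDiv
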