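import Groth.Agent.RefDiv.Affine
import Groth.Agent.ModColimLib.Sections
import Mathlib.CategoryTheory.Functor.OfSequence

/-!
# The colimit of the reflexive powers is the direct image from the locus of generation
-/

set_option autoImplicit false

noncomputable section

universe u

open CategoryTheory Limits AlgebraicGeometry TopologicalSpace Order Opposite
open Groth.Agent.QCohBase

namespace Groth.Agent.RefDiv

section Colim

variable {X : Scheme.{u}}

theorem preservesColimitsNat (x : X) : PreservesColimitsOfShape ℕ (ModColimLib.stalkF x) :=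
  have := ModColimLib.preservesColimitsOfShape_stalkF x (ULiftHom.{u} (ULift.{u} ℕ))
  preservesColimitsOfShape_of_equiv (ULiftHomULiftCategory.equiv.{u, u} ℕ).symm _

theorem preservesColimitsNat_forget : PreservesColimitsOfShape ℕ (forget Ab.{u}) :=
  have : IsFiltered (ULiftHom.{u} (ULift.{u} ℕ)) :=
    IsFiltered.of_equivalence (ULiftHomULiftCategory.equiv.{u, u} ℕ)
  preservesColimitsOfShape_of_equiv (ULiftHomULiftCategory.equiv.{u, u} ℕ).symm _

theorem unit_inv_compat {C D : Type*} [Category* C] [Category* D] {L : C ⥤ D} {R : D ⥤ C} (adj : L ⊣ R)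
    {O A B : C} (a : O ⟶ A) (m : A ⟶ B) (b : O ⟶ B) (h : b = a ≫ m) [IsIso (L.map a)] [IsIso (L.map b)] :
    m ≫ adj.unit.app B ≫ R.map (inv (L.map b)) = adj.unit.app A ≫ R.map (inv (L.map a)) := by
  subst h
  have nat : m ≫ adj.unit.app B = adj.unit.app A ≫ R.map (L.map m) := adj.unit.naturality m
  rw [← Category.assoc, nat, Category.assoc, ← Functor.map_comp]
  congr 2
  rw [IsIso.comp_inv_eq, IsIso.eq_inv_comp, L.map_comp]

theorem unit_inv_id {C D : Type*} [Category* C] [Category* D] {L : C ⥤ D} {R : D ⥤ C} (adj : L ⊣ R)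
    {O : C} (a : O ⟶ O) (h : a = 𝟙 O) [IsIso (L.map a)] :
    adj.unit.app O ≫ R.map (inv (L.map a)) = adj.unit.app O := by
  subst h
  have : inv (L.map (𝟙 O)) = 𝟙 _ := by
    apply IsIso.inv_eq_of_hom_inv_id
    rw [Category.comp_id, L.map_id]
  rw [this, R.map_id]
  exact Category.comp_id _

theorem stalkMap_stalkF {M N : X.Modules} (φ : M ⟶ N) (x : X) (v : M.presheaf.stalk x) :
    (ModColimLib.stalkF x).map φ v = RefHull.stalkMapₗ φ x v := rfl

/-- A criterion for a cocone over a sequence to be a colimit. -/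
theorem nonempty_isColimit {D : ℕ ⥤ X.Modules} [HasColimit D] (c : Cocone D)
    (hsurj : ∀ (x : X) (w : c.pt.presheaf.stalk x), ∃ (n : ℕ) (v : (D.obj n).presheaf.stalk x),
      RefHull.stalkMapₗ (c.ι.app n) x v = w)
    (hker : ∀ (x : X) (n : ℕ) (v : (D.obj n).presheaf.stalk x), RefHull.stalkMapₗ (c.ι.app n) x v = 0 →
      RefHull.stalkMapₗ (D.map (homOfLE n.le_succ)) x v = 0) :
    Nonempty (IsColimit c) := by
  have hπ : IsIso (colimit.desc D c) := by
    refine isIso_of_stalkMap_bijective _ fun x => ?_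
    haveI := preservesColimitsNat x
    haveI := preservesColimitsNat_forget.{u}
    have h := isColimitOfPreserves (forget Ab.{u})
      (isColimitOfPreserves (ModColimLib.stalkF x) (colimit.isColimit D))
    have hfac : ∀ (n : ℕ) (v : (D.obj n).presheaf.stalk x),
        RefHull.stalkMapₗ (colimit.desc D c) x (RefHull.stalkMapₗ (colimit.ι D n) x v) =
          RefHull.stalkMapₗ (c.ι.app n) x v := fun n v => by
      rw [← stalkMap_stalkF, ← stalkMap_stalkF, ← stalkMap_stalkF, ← ConcreteCategory.comp_apply,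
        ← Functor.map_comp, colimit.ι_desc]
    refine ⟨?_, fun w => ?_⟩
    · rw [← LinearMap.ker_eq_bot, LinearMap.ker_eq_bot']
      intro z hz
      obtain ⟨n, v, hv⟩ := Types.jointly_surjective _ h z
      change RefHull.stalkMapₗ (colimit.ι D n) x (v : (D.obj n).presheaf.stalk x) = z at hv
      rw [← hv, hfac] at hz
      rw [← hv, ← colimit.w D (homOfLE n.le_succ), ← stalkMap_stalkF, Functor.map_comp,
        ConcreteCategory.comp_apply, stalkMap_stalkF, stalkMap_stalkF, hker x n v hz, map_zero]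
    · obtain ⟨n, v, hv⟩ := hsurj x w
      exact ⟨RefHull.stalkMapₗ (colimit.ι D n) x v, (hfac n v).trans hv⟩
  haveI : IsIso ((colimit.isColimit D).desc c) := hπ
  exact ⟨IsColimit.ofPointIso (colimit.isColimit D)⟩

end Colim

variable {X : Scheme.{u}} {F : X.Modules}

/-- The leg of the cocone in degree `n`. -/
def powLeg (s : Coh.structureModule X ⟶ F) (U : X.Opens) (n : ℕ)
    [IsIso ((Scheme.Modules.restrictFunctor U.ι).map (RefPow.sPow s n))] :
    RefPow.refPow F n ⟶
      (Scheme.Modules.pushforward U.ι).obj ((Coh.structureModule X).restrict U.ι) :=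
  (Scheme.Modules.restrictAdjunction U.ι).unit.app (RefPow.refPow F n) ≫
    (Scheme.Modules.pushforward U.ι).map
      (inv ((Scheme.Modules.restrictFunctor U.ι).map (RefPow.sPow s n)))

variable (s : Coh.structureModule X ⟶ F) (U : X.Opens)
variable [hiso : ∀ n, IsIso ((Scheme.Modules.restrictFunctor U.ι).map (RefPow.sPow s n))]

theorem powLeg_zero : powLeg s U 0 =
    (Scheme.Modules.restrictAdjunction U.ι).unit.app (Coh.structureModule X) :=
  @unit_inv_id _ _ _ _ _ _ (Scheme.Modules.restrictAdjunction U.ι) (Coh.structureModule X)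
    (RefPow.sPow s 0) rfl (show IsIso ((Scheme.Modules.restrictFunctor U.ι).map (RefPow.sPow s 0)) from hiso 0)

theorem mulBy_powLeg (n : ℕ) : RefPow.mulBy s n ≫ powLeg s U (n + 1) = powLeg s U n :=
  unit_inv_compat (Scheme.Modules.restrictAdjunction U.ι) (RefPow.sPow s n) (RefPow.mulBy s n)
    (RefPow.sPow s (n + 1)) rfl

/-- The cocone on the reflexive powers. -/
def powCocone : RefPow.diagram F s ⟶ (Functor.const ℕ).obj
    ((Scheme.Modules.pushforward U.ι).obj ((Coh.structureModule X).restrict U.ι)) :=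
  NatTrans.ofSequence (fun n => powLeg s U n) fun n => by
    rw [RefPow.diagram_map]
    exact (mulBy_powLeg s U n).trans (Category.comp_id _).symm

theorem powLeg_app (n : ℕ) (V : X.Opens) (t : Γ(RefPow.refPow F n, V)) :
    (RefPow.sPow s n).app (U.ι ''ᵁ (U.ι ⁻¹ᵁ V)) ((powLeg s U n).app V t) =
      mres (RefPow.refPow F n) (U.ι.image_preimage_le V) t := by
  have h := congrArg (fun g => Scheme.Modules.Hom.app g (U.ι ⁻¹ᵁ V))
    (IsIso.inv_hom_id ((Scheme.Modules.restrictFunctor U.ι).map (RefPow.sPow s n)))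
  simp only [Scheme.Modules.Hom.comp_app] at h
  exact ConcreteCategory.congr_hom h
    ((((Scheme.Modules.restrictAdjunction U.ι).unit.app (RefPow.refPow F n)).app V) t)

omit [∀ n, IsIso ((Scheme.Modules.restrictFunctor U.ι).map (RefPow.sPow s n))] in
theorem app_sPow_eq_smul (n : ℕ) (W : X.Opens) (b : Γ(X, W)) :
    (RefPow.sPow s n).app W b = b • SecTwist.val (RefPow.sPow s n) W :=
  GenLocus.app_eq_smul (RefPow.sPow s n) W b

end Groth.Agent.RefDiv

namespace Groth.Agent.RefDiv

variable {X : Scheme.{u}} [IsIntegral X] [IsLocallyNoetherian X] [Nrm X]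
variable {F : X.Modules} {s : Coh.structureModule X ⟶ F} {U : X.Opens}

theorem exists_colimit_nondeg (hF : RefHull.IsRef1 F) (hUs : (U : Set X) = RefPow.isoLocus s)
    (h0 : F.presheaf.germ ⊤ (genericPoint X) trivial (SecTwist.val s ⊤) ≠ 0) :
    ∃ ι : RefPow.diagram F s ⟶ (Functor.const ℕ).obj
        ((Scheme.Modules.pushforward U.ι).obj ((Coh.structureModule X).restrict U.ι)),
      ι.app 0 = (Scheme.Modules.restrictAdjunction U.ι).unit.app (Coh.structureModule X) ∧
        Nonempty (IsColimit (Cocone.mk _ ι)) := by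
  obtain ⟨φ, E, hE, hpos, -, hφ, h1⟩ := exists_emb_section hF (SecTwist.val s ⊤) h0
  have hU : ∀ y : X, y ∈ U ↔ ∀ z, z ⤳ y → coheight z = 1 → E z = 0 := fun y => by
    rw [← mem_isoLocus_iff s hF.1 hφ h1 y, ← hUs]; rfl
  have hηU : genericPoint X ∈ U := (hU _).mpr fun z hz hz1 => by
    have := (hz.antisymm (eta_spec z)).eq
    subst this
    simp [show coheight (genericPoint X) = 0 from coheight_eq_zero.mpr fun y _ => eta_spec y] at hz1
  choose ψ hψ hψ1 using fun n => (exists_pow s hF.2.2 hE hφ h1 n).1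
  have hb : ∀ n, ∀ y ∈ U, Function.Bijective (RefHull.stalkMapₗ (RefPow.sPow s n) y) := fun n y hy =>
    bijective_sPow s (hψ n) (hψ1 n) ((hU y).mp hy)
  haveI : ∀ n, IsIso ((Scheme.Modules.restrictFunctor U.ι).map (RefPow.sPow s n)) := fun n =>
    isIso_restrict_of_stalkMap _ U (hb n)
  have hmemW : ∀ (V : X.Opens) (z : X), z ∈ U → z ∈ V → z ∈ U.ι ''ᵁ (U.ι ⁻¹ᵁ V) := fun V z h h' =>
    ⟨⟨z, h⟩, h', rfl⟩
  have hWU : ∀ V : X.Opens, U.ι ''ᵁ (U.ι ⁻¹ᵁ V) ≤ U := fun V =>
    (U.ι.image_le_opensRange _).trans_eq U.opensRange_ι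
  refine ⟨powCocone s U, powLeg_zero s U, nonempty_isColimit _ (fun x w => ?_) (fun x n v hv => ?_)⟩
  · obtain ⟨V₀, hxV₀, b₀, rfl⟩ := TopCat.Presheaf.exists_germ_eq
      ((Scheme.Modules.pushforward U.ι).obj ((Coh.structureModule X).restrict U.ι)).presheaf w
    let b : Γ(X, U.ι ''ᵁ (U.ι ⁻¹ᵁ V₀)) := b₀
    have hη : genericPoint X ∈ U.ι ''ᵁ (U.ι ⁻¹ᵁ V₀) := hmemW V₀ _ hηU (eta_mem hxV₀)
    let c := X.presheaf.germ (U.ι ''ᵁ (U.ι ⁻¹ᵁ V₀)) (genericPoint X) hη b
    obtain ⟨_, ⟨V, hV, rfl⟩, hxV, hVV₀⟩ :=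
      X.isBasis_affineOpens.exists_subset_of_mem_open (show x ∈ (V₀ : Set X) from hxV₀) V₀.isOpen
    obtain ⟨N, hN⟩ := ((finite_bad (locFin_ord c) hV).image fun z => (-Scheme.ord c z).toNat).bddAbove
    obtain ⟨v, hv⟩ := (hψ N).surjAll x c fun z hzx hz _ => by
      have hzV : z ∈ V := hzx.mem_open V.isOpen hxV
      by_cases hc : c = 0
      · exact Or.inl hc
      refine Or.inr ?_
      have hEz := hpos z
      have hnE : 0 ≤ (N : ℤ) * E z := mul_nonneg (by omega) hEz
      by_cases hzU : z ∈ U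
      · have hge : 0 ≤ Scheme.ord c z := (mem_range_iff hz hc).mp
          ⟨X.presheaf.germ _ z (hmemW V₀ z hzU (hVV₀ hzV)) b, algebraMap_germ z _ _⟩
        omega
      by_cases hord : Scheme.ord c z = 0
      · omega
      have hle := hN (Set.mem_image_of_mem (fun z => (-Scheme.ord c z).toNat)
        (show z ∈ {z : X | z ∈ V ∧ coheight z = 1 ∧ Scheme.ord c z ≠ 0} from ⟨hzV, hz, hord⟩))
      have h2 : (N : ℤ) ≤ (N : ℤ) * E z := le_mul_of_one_le_right (by omega) (pos_of_notMem hU hpos hz hzU)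
      have h3 : -Scheme.ord c z ≤ (N : ℤ) := le_trans (Int.self_le_toNat _) (by exact_mod_cast hle)
      omega
    obtain ⟨T₀, hxT₀, t₀, rfl⟩ := TopCat.Presheaf.exists_germ_eq (RefPow.refPow F N).presheaf v
    let T := T₀ ⊓ V₀
    let t := mres (RefPow.refPow F N) (inf_le_left : T ≤ T₀) t₀
    let W := U.ι ''ᵁ (U.ι ⁻¹ᵁ T)
    have hWV₀ : W ≤ U.ι ''ᵁ (U.ι ⁻¹ᵁ V₀) := fun y ⟨a, ha, e⟩ => ⟨a, ha.2, e⟩
    have key : (powLeg s U N).app T t =
        ((Scheme.Modules.pushforward U.ι).obj ((Coh.structureModule X).restrict U.ι)).presheaf.map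
          (homOfLE (inf_le_right : T ≤ V₀)).op b₀ := by
      apply (app_bijective_of_stalkMap (RefPow.sPow s N) W fun y hy => hb N y (hWU T hy)).1
      refine (powLeg_app s U N T t).trans ?_
      refine Eq.trans ?_ (app_sPow_eq_smul s N W (ores hWV₀ b)).symm
      refine eq_of_valAt_eq (hψ N).inj _ _ fun y hy => ?_
      have hyT : y ∈ T := U.ι.image_preimage_le T hy
      rw [valAt_germ (ψ N) y hy, valAt_germ (ψ N) y hy]
      erw [Mero.germ_smul]
      rw [(ψ N).map_smul]
      rw [← SecTwist.map_val (RefPow.sPow s N) (homOfLE (le_top : W ≤ ⊤))]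
      erw [TopCat.Presheaf.germ_res_apply, TopCat.Presheaf.germ_res_apply, TopCat.Presheaf.germ_res_apply,
        TopCat.Presheaf.germ_res_apply]
      rw [hψ1 N, mul_one, ← valAt_germ (ψ N) x hxT₀]
      exact hv
    refine ⟨N, (RefPow.refPow F N).presheaf.germ T₀ x hxT₀ t₀, ?_⟩
    rw [← TopCat.Presheaf.germ_res_apply (RefPow.refPow F N).presheaf (homOfLE (inf_le_left : T ≤ T₀)) x
      ⟨hxT₀, hxV₀⟩ t₀]
    refine (RefHull.stalkMapₗ_germ (powLeg s U N) x _ _).trans ?_
    refine (congrArg _ key).trans ?_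
    exact TopCat.Presheaf.germ_res_apply _ _ _ _ b₀
  · obtain ⟨V₀, hxV₀, t₀, rfl⟩ := TopCat.Presheaf.exists_germ_eq (RefPow.refPow F n).presheaf v
    suffices hz : (RefPow.refPow F n).presheaf.germ V₀ x hxV₀ t₀ = 0 by
      refine (congrArg _ hz).trans ?_
      exact map_zero _
    replace hv := (RefHull.stalkMapₗ_germ (powLeg s U n) x hxV₀ t₀).symm.trans hv
    obtain ⟨T, hxT, i₁, i₂, hT⟩ := TopCat.Presheaf.germ_eq
      ((Scheme.Modules.pushforward U.ι).obj ((Coh.structureModule X).restrict U.ι)).presheaf x hxV₀ hxV₀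
      ((powLeg s U n).app V₀ t₀) 0 (hv.trans (map_zero _).symm)
    rw [map_zero] at hT
    have h2 : (powLeg s U n).app T (mres _ i₁.le t₀) = 0 :=
      (ConcreteCategory.congr_hom ((powLeg s U n).mapPresheaf.naturality i₁.op) t₀).trans hT
    have hηW : genericPoint X ∈ U.ι ''ᵁ (U.ι ⁻¹ᵁ T) := hmemW T _ hηU (eta_mem hxT)
    have h3 := powLeg_app s U n T (mres _ i₁.le t₀)
    have h3' : mres (RefPow.refPow F n) (U.ι.image_preimage_le T) (mres _ i₁.le t₀) = 0 :=
      h3.symm.trans ((congrArg _ h2).trans (map_zero _))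
    have h4 := congrArg ((RefPow.refPow F n).presheaf.germ _ (genericPoint X) hηW) h3'
    rw [map_zero, mres, mres, TopCat.Presheaf.germ_res_apply, TopCat.Presheaf.germ_res_apply] at h4
    apply (hψ n).inj x
    rw [valAt_germ (ψ n) x hxV₀, h4, map_zero, map_zero]

theorem exists_colimit_degenerate (hF : RefHull.IsRef1 F) (hUs : (U : Set X) = RefPow.isoLocus s)
    (h0 : F.presheaf.germ ⊤ (genericPoint X) trivial (SecTwist.val s ⊤) = 0) :
    ∃ ι : RefPow.diagram F s ⟶ (Functor.const ℕ).obj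
        ((Scheme.Modules.pushforward U.ι).obj ((Coh.structureModule X).restrict U.ι)),
      ι.app 0 = (Scheme.Modules.restrictAdjunction U.ι).unit.app (Coh.structureModule X) ∧
        Nonempty (IsColimit (Cocone.mk _ ι)) := by
  have hUe : (U : Set X) = ∅ := hUs.trans (isoLocus_empty s hF.2.2 h0 (torsionFree_of_ref1 hF))
  have hbot : ∀ y, y ∉ U := fun y hy => by
    have : y ∈ (U : Set X) := hy
    rw [hUe] at this
    exact this
  haveI : ∀ n, IsIso ((Scheme.Modules.restrictFunctor U.ι).map (RefPow.sPow s n)) := fun n =>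
    isIso_restrict_of_stalkMap _ U fun y hy => absurd hy (hbot y)
  have hval : ∀ V : X.Opens, SecTwist.val s V = 0 := fun V => by
    rw [← SecTwist.map_val s (homOfLE (le_top : V ≤ ⊤)), section_eq_zero hF _ h0]
    exact map_zero _
  have hmul : ∀ (n : ℕ) (V : X.Opens) (t : Γ(RefPow.refPow F n, V)), (RefPow.mulBy s n).app V t = 0 := by
    intro n V t
    cases n with
    | zero =>
      refine (GenLocus.app_eq_smul s V t).trans ?_
      rw [show GenLocus.sect s V = 0 from hval V, smul_zero]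
      rfl
    | succ m =>
      rw [RefPow.mulBy_succ_app, hval]
      have : SecTwist.tmul (RefPow.refPow F (m + 1)) F V t 0 = 0 := by
        rw [SecTwist.tmul, TensorProduct.tmul_zero]
        exact map_zero _
      exact (congrArg _ this).trans (map_zero _)
  refine ⟨powCocone s U, powLeg_zero s U, nonempty_isColimit _ (fun x w => ?_) (fun x n v _ => ?_)⟩
  · obtain ⟨V, hxV, b, rfl⟩ := TopCat.Presheaf.exists_germ_eq
      ((Scheme.Modules.pushforward U.ι).obj ((Coh.structureModule X).restrict U.ι)).presheaf w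
    have hW : U.ι ''ᵁ (U.ι ⁻¹ᵁ V) = ⊥ := Opens.ext (Set.ext fun y =>
      ⟨fun hy => absurd ((U.ι.image_le_opensRange _).trans_eq U.opensRange_ι hy) (hbot y), fun hy => hy.elim⟩)
    have hs : Subsingleton Γ(X, U.ι ''ᵁ (U.ι ⁻¹ᵁ V)) := by rw [hW]; infer_instance
    have hb0 : b = 0 := hs.elim b 0
    refine ⟨0, 0, ?_⟩
    rw [hb0]
    exact (map_zero _).trans (map_zero _).symm
  · obtain ⟨V, hxV, t, rfl⟩ := TopCat.Presheaf.exists_germ_eq (RefPow.refPow F n).presheaf v
    rw [RefPow.diagram_map]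
    refine (RefHull.stalkMapₗ_germ (RefPow.mulBy s n) x hxV t).trans ?_
    rw [hmul]
    exact map_zero _

theorem exists_colimit (hF : RefHull.IsRef1 F) (hUs : (U : Set X) = RefPow.isoLocus s) :
    ∃ ι : RefPow.diagram F s ⟶ (Functor.const ℕ).obj
        ((Scheme.Modules.pushforward U.ι).obj ((Coh.structureModule X).restrict U.ι)),
      ι.app 0 = (Scheme.Modules.restrictAdjunction U.ι).unit.app (Coh.structureModule X) ∧
        Nonempty (IsColimit (Cocone.mk _ ι)) := by
  by_cases h0 : F.presheaf.germ ⊤ (genericPoint X) trivial (SecTwist.val s ⊤) = 0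
  · exact exists_colimit_degenerate hF hUs h0
  · exact exists_colimit_nondeg hF hUs h0

end Groth.Agent.RefDiv
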