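import Groth.Agent.RefDiv.Model

/-!
# The dual of a module agreeing with `O(D)` in codimension one is `O(-D)`
-/

set_option autoImplicit false

noncomputable section

universe u

open CategoryTheory Limits AlgebraicGeometry TopologicalSpace Order Opposite

namespace Groth.Agent.RefDiv

variable {X : Scheme.{u}} [IsIntegral X]

/-! ### The structure sheaf -/

local notation "𝓞" => Coh.structureModule X

/-- The cocone sending functions near the generic point to their value in the function field. -/
def oCocone : Cocone ((OpenNhds.inclusion (genericPoint X)).op ⋙ (Coh.structureModule X).presheaf) where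
  pt := AddCommGrpCat.of X.functionField
  ι :=
    { app := fun V => AddCommGrpCat.ofHom
        { toFun := fun g => X.presheaf.germ V.unop.1 (genericPoint X) V.unop.2 (g : Γ(X, V.unop.1))
          map_zero' := map_zero (X.presheaf.germ V.unop.1 (genericPoint X) V.unop.2).hom
          map_add' := map_add (X.presheaf.germ V.unop.1 (genericPoint X) V.unop.2).hom }
      naturality := fun V W i => by
        ext g
        exact TopCat.Presheaf.germ_res_apply X.presheaf _ _ _ (g : Γ(X, V.unop.1)) }

/-- The functional of the structure sheaf. -/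
def fnlO : Fnl (Coh.structureModule X) where
  toHom := (colimit.desc _ (oCocone (X := X))).hom
  map_smul a v := by
    have key : ∀ {U : X.Opens} (hU : genericPoint X ∈ U) (s : Γ(X, U)),
        (colimit.desc _ (oCocone (X := X))).hom
          ((Coh.structureModule X).presheaf.germ U (genericPoint X) hU s) =
        X.presheaf.germ U (genericPoint X) hU s := by
      intro U hU s
      change ((Coh.structureModule X).presheaf.germ U (genericPoint X) hU ≫
        colimit.desc _ (oCocone (X := X))).hom s = _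
      have e : (Coh.structureModule X).presheaf.germ U (genericPoint X) hU ≫
          colimit.desc _ (oCocone (X := X)) = (oCocone (X := X)).ι.app (op ⟨U, hU⟩) :=
        colimit.ι_desc _ _
      rw [e]; rfl
    obtain ⟨Ua, ha, r, rfl⟩ := TopCat.Presheaf.exists_germ_eq X.presheaf a
    obtain ⟨Uv, hv, m, rfl⟩ := TopCat.Presheaf.exists_germ_eq (Coh.structureModule X).presheaf v
    rw [← TopCat.Presheaf.germ_res_apply X.presheaf (homOfLE (inf_le_left : Ua ⊓ Uv ≤ Ua))
        (genericPoint X) ⟨ha, hv⟩,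
      ← TopCat.Presheaf.germ_res_apply (Coh.structureModule X).presheaf
        (homOfLE (inf_le_right : Ua ⊓ Uv ≤ Uv)) (genericPoint X) ⟨ha, hv⟩,
      ← Mero.germ_smul]
    erw [key, key]
    exact map_mul (X.presheaf.germ (Ua ⊓ Uv) (genericPoint X) ⟨ha, hv⟩).hom _ _

/-- The embedding of the stalks of the structure sheaf in the function field. -/
abbrev oK (x : X) : (𝓞).presheaf.stalk x →ₗ[X.presheaf.stalk x] X.functionField := valAt fnlO x

theorem fnlO_germ {U : X.Opens} (hU : genericPoint X ∈ U) (s : Γ(X, U)) :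
    (fnlO (X := X)).toHom ((Coh.structureModule X).presheaf.germ U (genericPoint X) hU s) =
      X.presheaf.germ U (genericPoint X) hU s := by
  change ((Coh.structureModule X).presheaf.germ U (genericPoint X) hU ≫
    colimit.desc _ (oCocone (X := X))).hom s = _
  have e : (Coh.structureModule X).presheaf.germ U (genericPoint X) hU ≫
      colimit.desc _ (oCocone (X := X)) = (oCocone (X := X)).ι.app (op ⟨U, hU⟩) :=
    colimit.ι_desc _ _
  rw [e]; rfl

theorem oK_germ {U : X.Opens} (x : X) (hx : x ∈ U) (s : Γ(X, U)) :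
    oK x ((𝓞).presheaf.germ U x hx s) = X.presheaf.germ U (genericPoint X) (eta_mem hx) s :=
  (congrArg fnlO.toHom (toEta_germ (Coh.structureModule X) x hx s)).trans (fnlO_germ _ s)

theorem oK_injective (x : X) : Function.Injective (oK x) := by
  rw [← LinearMap.ker_eq_bot, LinearMap.ker_eq_bot']
  intro v hv
  obtain ⟨U, hx, s, rfl⟩ := TopCat.Presheaf.exists_germ_eq (Coh.structureModule X).presheaf v
  rw [oK_germ] at hv
  have : Nonempty U := ⟨⟨x, hx⟩⟩
  have hs : (s : Γ(X, U)) = 0 := germ_injective_of_isIntegral X _ (eta_mem hx) (hv.trans (map_zero _).symm)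
  exact (congrArg (fun t : Γ(X, U) => (Coh.structureModule X).presheaf.germ U x hx t) hs).trans
    (map_zero ((Coh.structureModule X).presheaf.germ U x hx).hom)

theorem oK_mem_range (x : X) (v : (𝓞).presheaf.stalk x) :
    oK x v ∈ (algebraMap (X.presheaf.stalk x) X.functionField).range := by
  obtain ⟨U, hx, s, rfl⟩ := TopCat.Presheaf.exists_germ_eq (Coh.structureModule X).presheaf v
  exact ⟨X.presheaf.germ U x hx s, (algebraMap_germ x hx s).trans (oK_germ x hx s).symm⟩

theorem exists_germ_of_range {x : X} {c : X.functionField}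
    (h : c ∈ (algebraMap (X.presheaf.stalk x) X.functionField).range) :
    ∃ (W : X.Opens) (hx : x ∈ W) (r : Γ(X, W)),
      X.presheaf.germ W (genericPoint X) (eta_mem hx) r = c := by
  obtain ⟨a, rfl⟩ := h
  obtain ⟨W, hx, r, rfl⟩ := TopCat.Presheaf.exists_germ_eq X.presheaf a
  exact ⟨W, hx, r, (algebraMap_germ x hx r).symm⟩

theorem exists_oK {x : X} {c : X.functionField}
    (h : c ∈ (algebraMap (X.presheaf.stalk x) X.functionField).range) : ∃ v, oK x v = c := by
  obtain ⟨W, hx, r, rfl⟩ := exists_germ_of_range h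
  exact ⟨_, oK_germ x hx r⟩

variable [IsLocallyNoetherian X] [Nrm X]

/-! ### Modules agreeing with `O(D)` in codimension one -/

/-- `M` agrees with `O(D)` at the generic point and in codimension one, through `φ`. -/
structure Good {M : X.Modules} (φ : Fnl M) (D : X → ℤ) : Prop where
  bij : Function.Bijective φ.toHom
  mem : ∀ z, coheight z = 1 → ∀ v : M.presheaf.stalk z, Mem D z (valAt φ z v)
  surj : ∀ z, coheight z = 1 → ∀ c, Mem D z c → ∃ v, valAt φ z v = c

variable {M : X.Modules} {φ : Fnl M} {D : X → ℤ}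

/-- The point of the generic stalk with value one. -/
def Good.one (h : Good φ D) : M.presheaf.stalk (genericPoint X) := (h.bij.2 1).choose

theorem Good.one_spec (h : Good φ D) : φ.toHom h.one = 1 := (h.bij.2 1).choose_spec

theorem Good.smul_one (h : Good φ D) (v : M.presheaf.stalk (genericPoint X))
    (a : X.presheaf.stalk (genericPoint X)) (ha : (a : X.functionField) = φ.toHom v) :
    a • h.one = v := by
  apply h.bij.1
  rw [φ.map_smul, h.one_spec, mul_one, ha]

/-- The functional on the dual: `θ ↦ θ_η(1)`. -/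
def dualFnl (h : Good φ D) : Fnl (RefHull.dual M) where
  toHom :=
    { toFun := fun θ => fnlO.toHom (RefHull.evalStalk M 𝓞 (genericPoint X) θ h.one)
      map_zero' := by rw [map_zero]; exact map_zero _
      map_add' := fun a b => by rw [map_add, LinearMap.add_apply]; exact map_add _ _ _ }
  map_smul a θ := by
    change fnlO.toHom (RefHull.evalStalk M 𝓞 (genericPoint X) (a • θ) h.one) = _
    rw [map_smul, LinearMap.smul_apply, fnlO.map_smul]
    rfl

theorem dualFnl_apply (h : Good φ D) (x : X) (θ : (RefHull.dual M).presheaf.stalk x)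
    (v : M.presheaf.stalk x) :
    oK x (RefHull.evalStalk M 𝓞 x θ v) = valAt (dualFnl h) x θ * valAt φ x v := by
  obtain ⟨U, hx, g, rfl⟩ := TopCat.Presheaf.exists_germ_eq (RefHull.dual M).presheaf θ
  obtain ⟨Uv, hv, m, rfl⟩ := TopCat.Presheaf.exists_germ_eq M.presheaf v
  let V := U ⊓ Uv
  obtain ⟨W, hW, j, n, hn⟩ := RefHull.isLocSect_of_mem g V (homOfLE inf_le_left)
    (M.presheaf.map (homOfLE (inf_le_right : V ≤ Uv)).op m) ⟨x, hx, hv⟩
  have ex := hn ⟨x, hW⟩
  have eη := hn ⟨genericPoint X, eta_mem hW⟩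
  rw [TopCat.Presheaf.germ_res_apply] at ex eη
  rw [RefHull.evalStalk_germ]
  refine (congrArg (oK x) ex).trans ?_
  change fnlO.toHom (toEta _ x _) = _
  rw [toEta_germ]
  refine (congrArg fnlO.toHom eη.symm).trans ?_
  rw [valAt, valAt]
  simp only [LinearMap.coe_mk, AddHom.coe_mk, toEta_germ]
  change _ = fnlO.toHom (RefHull.evalStalk M 𝓞 (genericPoint X)
    ((RefHull.dual M).presheaf.germ U (genericPoint X) (eta_mem hx) g) h.one) * _
  rw [RefHull.evalStalk_germ]
  let a : X.presheaf.stalk (genericPoint X) := φ.toHom (M.presheaf.germ Uv (genericPoint X) (eta_mem hv) m)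
  rw [← h.smul_one (M.presheaf.germ Uv (genericPoint X) (eta_mem hv) m) a rfl, map_smul,
    fnlO.map_smul, φ.map_smul, h.one_spec, mul_one, mul_comm]

theorem dualFnl_injective (h : Good φ D) (x : X) : Function.Injective (valAt (dualFnl h) x) := by
  rw [← LinearMap.ker_eq_bot, LinearMap.ker_eq_bot']
  intro θ hθ
  obtain ⟨U, hx, g, rfl⟩ := TopCat.Presheaf.exists_germ_eq (RefHull.dual M).presheaf θ
  have hg : g = 0 := Subtype.ext <| funext fun y => LinearMap.ext fun v => by
    apply oK_injective y.1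
    have e := dualFnl_apply h y.1 ((RefHull.dual M).presheaf.germ U y.1 y.2 g) v
    rw [RefHull.evalStalk_germ] at e
    have hval : valAt (dualFnl h) y.1 ((RefHull.dual M).presheaf.germ U y.1 y.2 g) =
        valAt (dualFnl h) x ((RefHull.dual M).presheaf.germ U x hx g) :=
      congrArg (dualFnl h).toHom ((toEta_germ _ _ y.2 g).trans (toEta_germ _ _ hx g).symm)
    rw [hval, hθ, zero_mul] at e
    exact e.trans (map_zero _).symm
  rw [hg, map_zero]

theorem dualFnl_mem (h : Good φ D) (z : X) (hz : coheight z = 1)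
    (θ : (RefHull.dual M).presheaf.stalk z) : Mem (-D) z (valAt (dualFnl h) z θ) := fun _ => by
  by_cases hc : valAt (dualFnl h) z θ = 0
  · exact Or.inl hc
  obtain ⟨b, hb, hbo⟩ := exists_ord_eq z hz (-D z)
  obtain ⟨v, hv⟩ := h.surj z hz b fun _ => Or.inr hbo.ge
  have hr := oK_mem_range z (RefHull.evalStalk M 𝓞 z θ v)
  rw [dualFnl_apply h, hv, mem_range_iff hz (mul_ne_zero hc hb), Scheme.ord_mul hc hb, hbo] at hr
  exact Or.inr (by rw [Pi.neg_apply]; omega)

theorem mul_mem_range (h : Good φ D) {c : X.functionField} {V : X.Opens}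
    (hc : ∀ z ∈ V, Mem (-D) z c) {y : X} (hy : y ∈ V) (v : M.presheaf.stalk y) :
    c * valAt φ y v ∈ (algebraMap (X.presheaf.stalk y) X.functionField).range := by
  refine mem_range_of_codim_one y _ fun z hzy hz => ?_
  obtain ⟨U, hyU, m, rfl⟩ := TopCat.Presheaf.exists_germ_eq M.presheaf v
  have hzU : z ∈ U := hzy.mem_open U.isOpen hyU
  have hval : valAt φ y (M.presheaf.germ U y hyU m) = valAt φ z (M.presheaf.germ U z hzU m) :=
    congrArg φ.toHom ((toEta_germ _ _ hyU m).trans (toEta_germ _ _ hzU m).symm)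
  rw [hval]
  by_cases h0 : c * valAt φ z (M.presheaf.germ U z hzU m) = 0
  · rw [h0]; exact zero_mem _
  obtain ⟨hc0, hv0⟩ := mul_ne_zero_iff.mp h0
  rw [mem_range_iff hz h0, Scheme.ord_mul hc0 hv0]
  rcases hc z (hzy.mem_open V.isOpen hy) hz with h1 | h1
  · exact absurd h1 hc0
  rcases h.mem z hz (M.presheaf.germ U z hzU m) hz with h2 | h2
  · exact absurd h2 hv0
  rw [Pi.neg_apply] at h1
  omega

theorem dualFnl_surj (h : Good φ D) (hD : LocFin D) (x : X) (c : X.functionField)
    (hc : ∀ z, z ⤳ x → coheight z = 1 → Mem (-D) z c) : ∃ θ, valAt (dualFnl h) x θ = c := by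
  obtain ⟨w, hw⟩ := exists_evK hD.neg x hc
  obtain ⟨V, hxV, s, rfl⟩ := TopCat.Presheaf.exists_germ_eq (OD (-D)).presheaf w
  rw [evK_germ] at hw
  have hcV : ∀ z ∈ V, Mem (-D) z c := fun z hz => hw ▸ sec_const (-D) s ⟨x, hxV⟩ ⟨z, hz⟩ ▸
    sec_mem (-D) s ⟨z, hz⟩
  choose gf hgf using fun (y : V) (v : M.presheaf.stalk y.1) =>
    exists_oK (mul_mem_range h hcV y.2 v)
  let g : ∀ y : V, RefHull.StalkHom M 𝓞 y.1 := fun y =>
    { toFun := gf y
      map_add' := fun a b => oK_injective y.1 (by
        rw [map_add, hgf, hgf, hgf, map_add, mul_add])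
      map_smul' := fun a b => oK_injective y.1 (by
        rw [RingHom.id_apply, map_smul, hgf, hgf, map_smul, mul_smul_comm]) }
  have hg : ∀ (y : V) (v : M.presheaf.stalk y.1), oK y.1 (g y v) = c * valAt φ y.1 v := hgf
  have hloc : RefHull.IsLocSect M 𝓞 g := by
    intro V' i m y
    obtain ⟨W, hyW, r, hr⟩ := exists_germ_of_range
      (mul_mem_range h hcV (i.le y.2) (M.presheaf.germ V' y.1 y.2 m))
    refine ⟨W ⊓ V', ⟨hyW, y.2⟩, homOfLE inf_le_right,
      (Coh.structureModule X).presheaf.map (homOfLE (inf_le_left : W ⊓ V' ≤ W)).op r, fun y' => ?_⟩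
    apply oK_injective y'.1
    rw [TopCat.Presheaf.germ_res_apply, oK_germ]
    refine (hg ⟨y'.1, _⟩ _).trans ?_
    refine Eq.trans ?_ hr.symm
    exact congrArg (fun t => c * φ.toHom t)
      ((toEta_germ _ _ y'.2.2 m).trans (toEta_germ _ _ y.2 m).symm)
  refine ⟨(RefHull.dual M).presheaf.germ V x hxV ⟨g, hloc⟩, ?_⟩
  change (dualFnl h).toHom (toEta _ x _) = c
  rw [toEta_germ]
  change fnlO.toHom (RefHull.evalStalk M 𝓞 (genericPoint X) _ h.one) = c
  rw [RefHull.evalStalk_germ]
  refine ((valAt_eta fnlO _).symm.trans (hg ⟨genericPoint X, eta_mem hxV⟩ h.one)).trans ?_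
  rw [valAt_eta, h.one_spec, mul_one]

theorem dualFnl_good (h : Good φ D) (hD : LocFin D) : Good (dualFnl h) (-D) where
  bij := by
    refine ⟨fun a b hab => dualFnl_injective h (genericPoint X) ?_, fun c => ?_⟩
    · rwa [valAt_eta, valAt_eta]
    · obtain ⟨θ, hθ⟩ := dualFnl_surj h hD (genericPoint X) c fun z hz hz1 => by
        have h0 : z = genericPoint X := (hz.antisymm (eta_spec z)).eq
        subst h0
        simp [show coheight (genericPoint X) = 0 from
          coheight_eq_zero.mpr fun y _ => eta_spec y] at hz1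
      exact ⟨θ, (valAt_eta _ θ).symm.trans hθ⟩
  mem := fun z hz θ => dualFnl_mem h z hz θ
  surj := fun z hz c hc => dualFnl_surj h hD z c fun w hw hw1 => by
    rwa [eq_of_specializes_codim_one hw1 hz hw]

/-- The dual of a module agreeing with `O(D)` in codimension one is `O(-D)`. -/
theorem isIso_dual (h : Good φ D) (hD : LocFin D) :
    IsIso (mkHom (-D) (dualFnl h) (dualFnl_mem h)) :=
  isIso_of_valAt (-D) _ (dualFnl h) (evK_mkHom (-D) _ _) (dualFnl_injective h)
    (dualFnl_surj h hD)

theorem nonempty_dualIso (h : Good φ D) (hD : LocFin D) :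
    Nonempty (RefHull.dual M ≅ OD (-D)) :=
  have := isIso_dual h hD
  ⟨asIso (mkHom (-D) (dualFnl h) (dualFnl_mem h))⟩

/-- The functional on the bidual. -/
abbrev ddualFnl (h : Good φ D) (hD : LocFin D) : Fnl (RefHull.ddual M) :=
  dualFnl (dualFnl_good h hD)

theorem ddualFnl_good (h : Good φ D) (hD : LocFin D) : Good (ddualFnl h hD) D := by
  have := dualFnl_good (dualFnl_good h hD) hD.neg
  rwa [neg_neg] at this

theorem ddualFnl_bidual (h : Good φ D) (hD : LocFin D) (x : X) (v : M.presheaf.stalk x) :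
    valAt (ddualFnl h hD) x (RefHull.stalkMapₗ (RefHull.bidualMap M) x v) = valAt φ x v := by
  obtain ⟨U, hx, m, rfl⟩ := TopCat.Presheaf.exists_germ_eq M.presheaf v
  rw [RefHull.stalkMapₗ_germ]
  change (ddualFnl h hD).toHom (toEta _ x _) = φ.toHom (toEta _ x _)
  rw [toEta_germ, toEta_germ]
  change fnlO.toHom (RefHull.evalStalk (RefHull.dual M) 𝓞 (genericPoint X) _ _) = _
  rw [RefHull.evalStalk_germ, RefHull.bidualMap_app_apply, RefHull.bidualAt_apply,
    ← valAt_eta fnlO, dualFnl_apply h, valAt_eta, valAt_eta, (dualFnl_good h hD).one_spec, one_mul]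

theorem isIso_ddual (h : Good φ D) (hD : LocFin D) :
    IsIso (mkHom D (ddualFnl h hD) (ddualFnl_good h hD).mem) :=
  isIso_of_valAt D _ (ddualFnl h hD) (evK_mkHom D _ _) (dualFnl_injective _) fun x c hc =>
    dualFnl_surj (dualFnl_good h hD) hD.neg x c (by rwa [neg_neg])

theorem nonempty_ddualIso (h : Good φ D) (hD : LocFin D) :
    Nonempty (RefHull.ddual M ≅ OD D) :=
  have := isIso_ddual h hD
  ⟨asIso (mkHom D (ddualFnl h hD) (ddualFnl_good h hD).mem)⟩

theorem bidual_comp (h : Good φ D) (hD : LocFin D) (x : X) (v : M.presheaf.stalk x) :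
    evK D x (RefHull.stalkMapₗ (mkHom D (ddualFnl h hD) (ddualFnl_good h hD).mem) x
      (RefHull.stalkMapₗ (RefHull.bidualMap M) x v)) =
    evK D x (RefHull.stalkMapₗ (mkHom D φ h.mem) x v) := by
  rw [evK_mkHom, evK_mkHom, ddualFnl_bidual]

theorem nonempty_iso_of_reflexive (h : Good φ D) (hD : LocFin D) (hr : RefHull.IsReflexive M) :
    Nonempty (M ≅ OD D) := by
  obtain ⟨e⟩ := nonempty_ddualIso h hD
  have : IsIso (RefHull.bidualMap M) := hr
  exact ⟨asIso (RefHull.bidualMap M) ≪≫ e⟩

theorem stalkMap_bijective_of_isIso {A B : X.Modules} (ψ : A ⟶ B) [IsIso ψ] (x : X) :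
    Function.Bijective (RefHull.stalkMapₗ ψ x) :=
  (ConcreteCategory.isIso_iff_bijective
    ((TopCat.Presheaf.stalkFunctor Ab x).map ((Scheme.Modules.toPresheaf X).map ψ))).mp inferInstance

theorem fnlOD_good (hD : LocFin D) : Good (fnlOD D) D where
  bij := by
    have : ⇑(fnlOD D).toHom = ⇑(evK D (genericPoint X)) := rfl
    rw [this]; exact evK_eta_bijective hD
  mem := fun z _ v => by rw [valAt_fnlOD]; exact mem_of_evK D z v specializes_rfl
  surj := fun z hz c hc => by
    obtain ⟨v, hv⟩ := exists_evK hD z (c := c) fun w hw hw1 => by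
      rwa [eq_of_specializes_codim_one hw1 hz hw]
    exact ⟨v, (valAt_fnlOD D z v).trans hv⟩

theorem isReflexive_OD (hD : LocFin D) : RefHull.IsReflexive (OD D) := by
  refine isIso_of_stalkMap_bijective _ fun x => ?_
  have hiso := isIso_ddual (fnlOD_good hD) hD
  have hb := (evK_injective D x).comp (stalkMap_bijective_of_isIso
    (mkHom D (ddualFnl (fnlOD_good hD) hD) (ddualFnl_good _ hD).mem) x).1
  refine ⟨fun a b hab => ?_, fun w => ?_⟩
  · have ha := bidual_comp (fnlOD_good hD) hD x a
    have hb' := bidual_comp (fnlOD_good hD) hD x b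
    rw [hab, hb', evK_mkHom, evK_mkHom, valAt_fnlOD, valAt_fnlOD] at ha
    exact evK_injective D x ha.symm
  · refine ⟨RefHull.stalkMapₗ (mkHom D (ddualFnl (fnlOD_good hD) hD) (ddualFnl_good _ hD).mem) x w,
      hb ?_⟩
    simp only [Function.comp_apply]
    rw [bidual_comp, evK_mkHom, valAt_fnlOD]

end Groth.Agent.RefDiv
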