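import Groth.Prelude.Def_Pi1
import Groth.Agent.CAlgReflexive.Normal
import Mathlib

/-!
# Orders of rational functions at codimension one points of normal schemes
-/

set_option autoImplicit false

noncomputable section

universe u

open CategoryTheory AlgebraicGeometry TopologicalSpace Order

namespace Groth.Agent.RefDiv

variable (X : Scheme.{u})

/-- Normality as a class. -/
class Nrm : Prop where
  normal : Pi1.IsNormalScheme X

variable {X} [IsIntegral X]

theorem eta_mem {U : X.Opens} {x : X} (hx : x ∈ U) : genericPoint X ∈ U :=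
  (genericPoint_spec X).mem_open_set_iff U.isOpen |>.mpr ⟨x, trivial, hx⟩

theorem eta_spec (x : X) : genericPoint X ⤳ x := (genericPoint_spec X).specializes trivial

theorem algebraMap_germ {U : X.Opens} (x : X) (hx : x ∈ U) (r : Γ(X, U)) :
    algebraMap (X.presheaf.stalk x) X.functionField (X.presheaf.germ U x hx r) =
      X.presheaf.germ U (genericPoint X) (eta_mem hx) r :=
  TopCat.Presheaf.germ_stalkSpecializes_apply X.presheaf hx (eta_spec x) r

theorem eq_genericPoint_of_specializes {z w : X} (hw : coheight w = 1) (h : z ⤳ w) (hne : z ≠ w) :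
    z = genericPoint X := by
  by_contra hz
  have h1 : (w : X) < z := lt_of_le_not_ge h fun h' => hne (h.antisymm h').eq
  have h2 : z < genericPoint X := lt_of_le_not_ge (eta_spec z) fun h' =>
    hz ((eta_spec z).antisymm h').eq.symm
  have hzlt : coheight z < ⊤ :=
    lt_of_le_of_lt (Order.coheight_anti h1.le) (by rw [hw]; simp)
  have e1 : coheight z < coheight w := Order.coheight_strictAnti h1 hzlt
  have e2 : coheight (genericPoint X) < coheight z := Order.coheight_strictAnti h2
    (lt_of_le_of_lt (Order.coheight_anti h2.le) hzlt)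
  rw [hw] at e1
  have : coheight z = 0 := ENat.lt_one_iff_eq_zero.mp e1
  rw [this] at e2
  simp at e2

theorem eq_of_specializes_codim_one {z w : X} (hz : coheight z = 1) (hw : coheight w = 1)
    (h : z ⤳ w) : z = w := by
  by_contra hne
  have := eq_genericPoint_of_specializes hw h hne
  subst this
  have : coheight (genericPoint X) = 0 := coheight_eq_zero.mpr fun y hy => by
    have := eta_spec y
    exact this
  rw [this] at hz
  exact zero_ne_one hz

variable [IsLocallyNoetherian X]

section DVR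

variable [Nrm X]

theorem isDVR (z : X) (hz : coheight z = 1) : IsDiscreteValuationRing (X.presheaf.stalk z) := by
  have hdim : ringKrullDim (X.presheaf.stalk z) = 1 := by
    rw [ringKrullDim_stalk_eq_coheight, hz]; rfl
  have : IsIntegrallyClosed (X.presheaf.stalk z) := (Nrm.normal z).2
  have hf : ¬ IsField (X.presheaf.stalk z) := fun h => by
    rw [ringKrullDim_eq_zero_of_isField h] at hdim
    exact zero_ne_one hdim
  refine ((IsDiscreteValuationRing.TFAE (X.presheaf.stalk z) hf).out 0 3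
    (a := IsDiscreteValuationRing (X.presheaf.stalk z))
    (b := IsIntegrallyClosed (X.presheaf.stalk z) ∧
      ∃! P : Ideal (X.presheaf.stalk z), P ≠ ⊥ ∧ P.IsPrime)).mpr ⟨inferInstance, ?_⟩
  refine ⟨IsLocalRing.maximalIdeal _, ⟨fun h => hf (IsLocalRing.isField_iff_maximalIdeal_eq.mpr h),
    inferInstance⟩, ?_⟩
  rintro P ⟨hP, hPp⟩
  have : Ring.KrullDimLE 1 (X.presheaf.stalk z) := krullDimLE_of_coheight_le hz.le
  exact IsLocalRing.eq_maximalIdeal ((Ring.krullDimLE_one_iff_of_noZeroDivisors.mp inferInstance) P hP hPp)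

/-- A uniformizer at a codimension one point, in the function field. -/
theorem exists_uniformizer (z : X) (hz : coheight z = 1) :
    ∃ π : X.functionField, π ≠ 0 ∧ Scheme.ord π z = 1 ∧
      (∀ c : X.functionField, c ≠ 0 → ∃ v : (X.presheaf.stalk z)ˣ,
        c = algebraMap (X.presheaf.stalk z) X.functionField v * π ^ Scheme.ord c z) ∧
      ∃ ϖ : X.presheaf.stalk z, Irreducible ϖ ∧ π = algebraMap _ _ ϖ := by
  have := isDVR z hz
  obtain ⟨ϖ, hϖ⟩ := IsDiscreteValuationRing.exists_irreducible (X.presheaf.stalk z)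
  have : Ring.KrullDimLE 1 (X.presheaf.stalk z) := krullDimLE_of_coheight_le hz.le
  let π := algebraMap (X.presheaf.stalk z) X.functionField ϖ
  have hπ : π ≠ 0 := fun h => hϖ.ne_zero (IsFractionRing.injective _ X.functionField
    (h.trans (map_zero _).symm))
  have hordπ : X.ordHom z hz π = WithZero.exp 1 := Ring.ordFrac_irreducible hϖ
  refine ⟨π, hπ, ?_, fun c hc => ?_, ϖ, hϖ, rfl⟩
  · rw [Scheme.ord_eq_iff hz hπ, hordπ]; rfl
  · have hn : Ring.ordFrac (X.presheaf.stalk z) (π ^ Scheme.ord c z) =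
        Ring.ordFrac (X.presheaf.stalk z) c := by
      have h1 : X.ordHom z hz c = Multiplicative.ofAdd (Scheme.ord c z) :=
        (Scheme.ord_eq_iff hz hc).mp rfl
      rw [map_zpow₀]
      refine Eq.trans ?_ h1.symm
      change (X.ordHom z hz π) ^ _ = _
      rw [hordπ, ← WithZero.exp_zsmul]
      simp [WithZero.exp_eq_coe_ofAdd]
    obtain ⟨v, hv⟩ := Ring.associated_of_ordFrac_eq _ _ hn
    exact ⟨v, hv.symm.trans (by rw [Units.smul_def, Algebra.smul_def])⟩

theorem ord_units (z : X) (v : (X.presheaf.stalk z)ˣ) :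
    Scheme.ord (algebraMap (X.presheaf.stalk z) X.functionField v) z = 0 := by
  by_cases hz : coheight z = 1
  · have : Ring.KrullDimLE 1 (X.presheaf.stalk z) := krullDimLE_of_coheight_le hz.le
    have hv : algebraMap (X.presheaf.stalk z) X.functionField v ≠ 0 :=
      (v.isUnit.map _).ne_zero
    rw [Scheme.ord_eq_iff hz hv]
    exact Ring.ordFrac_of_isUnit v.isUnit
  · exact Scheme.ord_eq_zero_of_coheight_neq_one hz _

theorem ord_one (z : X) : Scheme.ord (1 : X.functionField) z = 0 := by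
  simpa using ord_units z 1

theorem ord_inv (z : X) {f : X.functionField} (hf : f ≠ 0) :
    Scheme.ord f⁻¹ z = - Scheme.ord f z := by
  have := Scheme.ord_mul (x := z) hf (inv_ne_zero hf)
  rw [mul_inv_cancel₀ hf, ord_one] at this
  omega

theorem ord_algebraMap_nonneg {z : X} (a : X.presheaf.stalk z) (ha : a ≠ 0) :
    0 ≤ Scheme.ord (algebraMap (X.presheaf.stalk z) X.functionField a) z := by
  by_cases hz : coheight z = 1
  · have : Ring.KrullDimLE 1 (X.presheaf.stalk z) := krullDimLE_of_coheight_le hz.le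
    have ha' : algebraMap (X.presheaf.stalk z) X.functionField a ≠ 0 := fun h => ha
      (IsFractionRing.injective _ X.functionField (h.trans (map_zero _).symm))
    rw [Scheme.le_ord_iff hz ha']
    exact Ring.ordFrac_ge_one_of_ne_zero ha
  · rw [Scheme.ord_eq_zero_of_coheight_neq_one hz]

theorem ord_pi_zpow {z : X} {π : X.functionField} (hπ : π ≠ 0) (h1 : Scheme.ord π z = 1) (n : ℤ) :
    Scheme.ord (π ^ n) z = n := by
  induction n using Int.induction_on with
  | zero => simpa using ord_one z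
  | succ i hi => rw [zpow_add_one₀ hπ, Scheme.ord_mul (zpow_ne_zero _ hπ) hπ, hi, h1]
  | pred i hi =>
    rw [sub_eq_add_neg, zpow_add₀ hπ, zpow_neg_one,
      Scheme.ord_mul (zpow_ne_zero _ hπ) (inv_ne_zero hπ), hi, ord_inv z hπ, h1]

theorem exists_ord_eq (z : X) (hz : coheight z = 1) (n : ℤ) :
    ∃ c : X.functionField, c ≠ 0 ∧ Scheme.ord c z = n := by
  obtain ⟨π, hπ, h1, -, -⟩ := exists_uniformizer z hz
  exact ⟨π ^ n, zpow_ne_zero _ hπ, ord_pi_zpow hπ h1 n⟩

theorem mem_range_iff {z : X} (hz : coheight z = 1) {c : X.functionField} (hc : c ≠ 0) :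
    c ∈ (algebraMap (X.presheaf.stalk z) X.functionField).range ↔ 0 ≤ Scheme.ord c z := by
  constructor
  · rintro ⟨a, rfl⟩
    exact ord_algebraMap_nonneg a fun h => hc (by rw [h, map_zero])
  · intro h
    obtain ⟨π, -, -, hu, ϖ, -, rfl⟩ := exists_uniformizer z hz
    obtain ⟨v, hv⟩ := hu c hc
    obtain ⟨m, hm⟩ := Int.eq_ofNat_of_zero_le h
    refine ⟨v * ϖ ^ m, ?_⟩
    rw [map_mul, map_pow, hv, hm]
    exact congrArg _ (zpow_natCast _ m).symm

/-- A rational function without poles in codimension one near `x` is regular at `x`. -/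
theorem mem_range_of_codim_one (x : X) (c : X.functionField)
    (h : ∀ z : X, z ⤳ x → coheight z = 1 →
      c ∈ (algebraMap (X.presheaf.stalk z) X.functionField).range) :
    c ∈ (algebraMap (X.presheaf.stalk x) X.functionField).range := by
  obtain ⟨_, ⟨U, hU, rfl⟩, hxU, -⟩ :=
    X.isBasis_affineOpens.exists_subset_of_mem_open (Set.mem_univ x) isOpen_univ
  have : Nonempty U := ⟨⟨x, hxU⟩⟩
  let A := Γ(X, U)
  let R := X.presheaf.stalk x
  obtain ⟨a, b, hb, rfl⟩ := IsFractionRing.div_surjective (A := R) c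
  have hb0 : b ≠ 0 := nonZeroDivisors.ne_zero hb
  letI : Algebra A R := TopCat.Presheaf.algebra_section_stalk X.presheaf ⟨x, hxU⟩
  have hloc : IsLocalization.AtPrime R (hU.primeIdealOf ⟨x, hxU⟩).asIdeal :=
    hU.isLocalization_stalk ⟨x, hxU⟩
  have : IsIntegrallyClosed R := (Nrm.normal x).2
  suffices hab : a ∈ Ideal.span {b} by
    obtain ⟨r, hr⟩ := Ideal.mem_span_singleton'.mp hab
    refine ⟨r, ?_⟩
    rw [← hr, map_mul, mul_div_assoc, div_self, mul_one]
    exact fun h0 => hb0 (IsFractionRing.injective _ X.functionField (h0.trans (map_zero _).symm))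
  refine CAlgSerre.mem_span_of_codim_one CAlgReflexive.normal_S2
    (IsSMulRegular.of_ne_zero hb0) fun q hqp hq => ?_
  by_cases hq0 : q = ⊥
  · exact ⟨b, by simpa [hq0] using hb0, Ideal.mem_span_singleton'.mpr ⟨a, mul_comm _ _⟩⟩
  have hq1 : q.height = 1 := le_antisymm hq (by
    rw [ENat.one_le_iff_ne_zero]
    exact fun h0 => hq0 (by
      have h' := Ideal.height_eq_zero_iff.mp h0
      rw [minimalPrimes_eq_minimals] at h'
      exact le_bot_iff.mp (h'.2 Ideal.isPrime_bot bot_le)))
  let q0 : PrimeSpectrum A := ⟨q.comap (algebraMap A R), Ideal.IsPrime.comap _⟩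
  let z : X := hU.fromSpec q0
  have hzU : z ∈ U := hU.range_fromSpec.le ⟨q0, rfl⟩
  have hzp : hU.primeIdealOf ⟨z, hzU⟩ = q0 := by
    apply hU.fromSpec.isOpenEmbedding.injective
    exact hU.fromSpec_primeIdealOf ⟨z, hzU⟩
  have hle : q0 ≤ hU.primeIdealOf ⟨x, hxU⟩ := by
    change q.comap _ ≤ _
    rw [← IsLocalization.AtPrime.comap_maximalIdeal R (hU.primeIdealOf ⟨x, hxU⟩).asIdeal]
    exact Ideal.comap_mono (IsLocalRing.le_maximalIdeal hqp.ne_top)
  have hzx : z ⤳ x := by
    have := ((PrimeSpectrum.le_iff_specializes _ _).mp hle).map hU.fromSpec.continuous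
    rwa [hU.fromSpec_primeIdealOf ⟨x, hxU⟩] at this
  have hcz : coheight z = 1 := by
    rw [coheight_eq_of_isOpenImmersion, ← idealHeight_eq_coheight]
    exact (IsLocalization.height_comap (hU.primeIdealOf ⟨x, hxU⟩).asIdeal.primeCompl q).trans hq1
  obtain ⟨e, he⟩ := h z hzx hcz
  letI : Algebra A (X.presheaf.stalk z) := TopCat.Presheaf.algebra_section_stalk X.presheaf ⟨z, hzU⟩
  have hlocz : IsLocalization.AtPrime (X.presheaf.stalk z) q0.asIdeal :=
    by
      have := hU.isLocalization_stalk ⟨z, hzU⟩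
      rw [hzp] at this
      exact this
  obtain ⟨⟨e', s⟩, hes⟩ := IsLocalization.surj q0.asIdeal.primeCompl e
  refine ⟨algebraMap A R s.1, fun hs => s.2 (Ideal.mem_comap.mpr hs),
    Ideal.mem_span_singleton'.mpr ⟨algebraMap A R e', ?_⟩⟩
  apply IsFractionRing.injective R X.functionField
  have hRK : ∀ r : A, algebraMap R X.functionField (algebraMap A R r) =
      algebraMap (X.presheaf.stalk z) X.functionField (algebraMap A _ r) := fun r =>
    (algebraMap_germ x hxU r).trans (algebraMap_germ z hzU r).symm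
  have hbK : algebraMap R X.functionField b ≠ 0 :=
    fun h0 => hb0 (IsFractionRing.injective _ X.functionField (h0.trans (map_zero _).symm))
  rw [map_mul, map_mul, hRK, hRK, ← hes, map_mul, he]
  field_simp

end DVR

/-! ### Finiteness -/

theorem finite_codim_one_compl (x : X) (U₀ : X.Opens) (h₀ : genericPoint X ∈ U₀) :
    ∃ U : X.Opens, x ∈ U ∧ {z : X | z ∈ U ∧ z ∉ U₀ ∧ coheight z = 1}.Finite := by
  obtain ⟨_, ⟨U, hU, rfl⟩, hxU, -⟩ :=
    X.isBasis_affineOpens.exists_subset_of_mem_open (Set.mem_univ x) isOpen_univ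
  refine ⟨U, hxU, ?_⟩
  have : IsNoetherianRing Γ(X, U) := IsLocallyNoetherian.component_noetherian ⟨U, hU⟩
  have hNS : NoetherianSpace ↥(U : Set X) := noetherianSpace_of_isAffineOpen U hU
  obtain ⟨S, hSf, hS1, hS2, hS3⟩ := (have := hNS; @NoetherianSpace.exists_finite_set_isClosed_irreducible ↥(U : Set X) _ hNS
    (s := (Subtype.val ⁻¹' ((U₀ : Set X)ᶜ) : Set U)) (U₀.isOpen.isClosed_compl.preimage continuous_subtype_val))
  classical
  let gen : Set U → X := fun t => if h : IsIrreducible (Subtype.val '' t : Set X) then h.genericPoint else x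
  refine Set.Finite.subset (hSf.image gen) ?_
  rintro z ⟨hzU, hz0, hz⟩
  have : (⟨z, hzU⟩ : U) ∈ ⋃₀ S := hS3 ▸ (show (⟨z, hzU⟩ : U) ∈ Subtype.val ⁻¹' (U₀ : Set X)ᶜ from hz0)
  obtain ⟨t, htS, hzt⟩ := this
  refine ⟨t, htS, ?_⟩
  have hirr : IsIrreducible (Subtype.val '' t : Set X) :=
    (hS2 t htS).image _ continuous_subtype_val.continuousOn
  change (if h : IsIrreducible (Subtype.val '' t : Set X) then h.genericPoint else x) = z
  rw [dif_pos hirr]
  have hspec := hirr.isGenericPoint_genericPoint_closure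
  have h1 : hirr.genericPoint ⤳ z :=
    hspec.specializes (subset_closure ⟨_, hzt, rfl⟩)
  by_contra hne
  have h2 := eq_genericPoint_of_specializes hz h1 hne
  have h3 : closure (Subtype.val '' t : Set X) ⊆ ((U₀ : Set X)ᶜ) :=
    closure_minimal (Set.image_subset_iff.mpr fun a ha => by
      have : a ∈ ⋃₀ S := ⟨t, htS, ha⟩
      rwa [← hS3] at this) U₀.isOpen.isClosed_compl
  exact h3 hspec.mem (h2 ▸ h₀)

/-- A function on points with locally finite support on codimension one points. -/
def LocFin (D : X → ℤ) : Prop :=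
  ∀ x : X, ∃ U : X.Opens, x ∈ U ∧ {z : X | z ∈ U ∧ coheight z = 1 ∧ D z ≠ 0}.Finite

theorem LocFin.add {D E : X → ℤ} (hD : LocFin D) (hE : LocFin E) : LocFin (D + E) := fun x => by
  obtain ⟨U, hU, hf⟩ := hD x
  obtain ⟨V, hV, hg⟩ := hE x
  refine ⟨U ⊓ V, ⟨hU, hV⟩, (hf.union hg).subset ?_⟩
  rintro z ⟨⟨hzU, hzV⟩, hz, hne⟩
  by_cases h : D z = 0
  · exact Or.inr ⟨hzV, hz, by simpa [h] using hne⟩
  · exact Or.inl ⟨hzU, hz, h⟩

theorem LocFin.neg {D : X → ℤ} (hD : LocFin D) : LocFin (-D) := fun x => by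
  obtain ⟨U, hU, hf⟩ := hD x
  exact ⟨U, hU, hf.subset fun z hz => ⟨hz.1, hz.2.1, by simpa using hz.2.2⟩⟩

omit [IsIntegral X] in
theorem locFin_zero : LocFin (0 : X → ℤ) := fun x => ⟨⊤, trivial, by simp⟩

theorem locFin_of_vanish {D : X → ℤ} (U₀ : X.Opens) (h₀ : genericPoint X ∈ U₀)
    (h : ∀ z ∈ U₀, coheight z = 1 → D z = 0) : LocFin D := fun x => by
  obtain ⟨U, hU, hf⟩ := finite_codim_one_compl x U₀ h₀
  exact ⟨U, hU, hf.subset fun z hz => ⟨hz.1, fun h0 => hz.2.2 (h z h0 hz.2.1), hz.2.1⟩⟩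

/-- An open around the generic point on which a nonzero rational function is a unit. -/
theorem exists_open_ord_eq_zero {c : X.functionField} (hc : c ≠ 0) :
    ∃ U₀ : X.Opens, genericPoint X ∈ U₀ ∧ ∀ z ∈ U₀, Scheme.ord c z = 0 := by
  obtain ⟨U, hU, s, hs⟩ := X.presheaf.exists_germ_eq (x := genericPoint X) c
  obtain ⟨V, hV, t, ht⟩ := X.presheaf.exists_germ_eq (x := genericPoint X) c⁻¹
  let W := U ⊓ V
  let p := X.presheaf.map (homOfLE (inf_le_left : W ≤ U)).op s *
    X.presheaf.map (homOfLE (inf_le_right : W ≤ V)).op t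
  have hW : genericPoint X ∈ W := ⟨hU, hV⟩
  have : Nonempty W := ⟨⟨_, hW⟩⟩
  have hp : p = 1 := by
    apply germ_injective_of_isIntegral X _ hW
    rw [map_mul, TopCat.Presheaf.germ_res_apply, TopCat.Presheaf.germ_res_apply, map_one, hs, ht]
    exact mul_inv_cancel₀ hc
  refine ⟨W, hW, fun z hz => ?_⟩
  have := Scheme.ord_of_isUnit (IsUnit.of_mul_eq_one _ hp) hz
  rwa [show X.germToFunctionField W (X.presheaf.map (homOfLE (inf_le_left : W ≤ U)).op s) = c from
    (TopCat.Presheaf.germ_res_apply X.presheaf _ _ _ s).trans hs] at this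

theorem locFin_ord (c : X.functionField) : LocFin (Scheme.ord c) := by
  by_cases hc : c = 0
  · rw [hc, Scheme.ord_zero]; exact locFin_zero
  · obtain ⟨U₀, h₀, h⟩ := exists_open_ord_eq_zero hc
    exact locFin_of_vanish U₀ h₀ fun z hz _ => h z hz

end Groth.Agent.RefDiv
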