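import Groth.Agent.RefDiv.IsoLocus

/-!
# Reflexive powers of a rank one reflexive module with a section, inside the function field
-/

set_option autoImplicit false

noncomputable section

universe u

open CategoryTheory Limits AlgebraicGeometry TopologicalSpace Order Opposite
open Groth.Agent.QCohBase

namespace Groth.Agent.RefDiv

section General

variable {X : Scheme.{u}}

theorem app_bijective_of_stalkMap {M N : X.Modules} (φ : M ⟶ N) (U : X.Opens)
    (h : ∀ x ∈ U, Function.Bijective (RefHull.stalkMapₗ φ x)) : Function.Bijective (φ.app U) := by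
  let f : (⟨M.presheaf, M.isSheaf⟩ : TopCat.Sheaf Ab X.carrier) ⟶ ⟨N.presheaf, N.isSheaf⟩ :=
    ⟨φ.mapPresheaf⟩
  exact TopCat.Presheaf.app_bijective_of_stalkFunctor_map_bijective f U h

theorem isIso_restrict_of_stalkMap {M N : X.Modules} (φ : M ⟶ N) (U : X.Opens)
    (h : ∀ x ∈ U, Function.Bijective (RefHull.stalkMapₗ φ x)) :
    IsIso ((Scheme.Modules.restrictFunctor U.ι).map φ) := by
  rw [Scheme.Modules.Hom.isIso_iff_isIso_app]
  intro W
  rw [ConcreteCategory.isIso_iff_bijective]
  exact app_bijective_of_stalkMap φ (U.ι ''ᵁ W) fun x hx =>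
    h x ((U.ι.image_le_opensRange W).trans_eq U.opensRange_ι hx)

variable [IsIntegral X]

theorem eq_of_valAt_eq {M : X.Modules} {ψ : Fnl M} (hinj : ∀ x, Function.Injective (valAt ψ x))
    {V : X.Opens} (a b : Γ(M, V))
    (h : ∀ x (hx : x ∈ V), valAt ψ x (M.presheaf.germ V x hx a) = valAt ψ x (M.presheaf.germ V x hx b)) :
    a = b :=
  TopCat.Presheaf.section_ext ⟨M.presheaf, M.isSheaf⟩ V a b fun x hx => hinj x (h x hx)

theorem valAt_germ {M : X.Modules} (ψ : Fnl M) {V : X.Opens} (x : X) (hx : x ∈ V) (a : Γ(M, V)) :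
    valAt ψ x (M.presheaf.germ V x hx a) =
      ψ.toHom (M.presheaf.germ V (genericPoint X) (eta_mem hx) a) :=
  congrArg ψ.toHom (toEta_germ M x hx a)

end General

variable {X : Scheme.{u}} [IsIntegral X] [IsLocallyNoetherian X] [Nrm X]

/-- A functional embedding the stalks of `M` onto those of `O(D)`. -/
structure Emb {M : X.Modules} (ψ : Fnl M) (D : X → ℤ) : Prop where
  good : Good ψ D
  inj : ∀ x, Function.Injective (valAt ψ x)
  surjAll : ∀ (x : X) (c : X.functionField),
    (∀ z, z ⤳ x → coheight z = 1 → Mem D z c) → ∃ v, valAt ψ x v = c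

theorem emb_ddual {M : X.Modules} {ψ : Fnl M} {D : X → ℤ} (h : Good ψ D) (hD : LocFin D) :
    Emb (ddualFnl h hD) D :=
  ⟨ddualFnl_good h hD, dualFnl_injective _, fun x c hc =>
    dualFnl_surj (dualFnl_good h hD) hD.neg x c (by rwa [neg_neg])⟩

theorem emb_reflexive {M : X.Modules} {ψ : Fnl M} {D : X → ℤ} (h : Good ψ D) (hD : LocFin D)
    (hr : RefHull.IsReflexive M) : Emb ψ D := by
  refine ⟨h, valAt_injective_of_iso h hD hr, fun x c hc => ?_⟩
  obtain ⟨w, hw⟩ := (emb_ddual h hD).surjAll x c hc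
  have : IsIso (RefHull.bidualMap M) := hr
  obtain ⟨v, rfl⟩ := (stalkMap_bijective_of_isIso (RefHull.bidualMap M) x).2 w
  exact ⟨v, (ddualFnl_bidual h hD x v).symm.trans hw⟩

theorem emb_structure : Emb (fnlO (X := X)) (0 : X → ℤ) := by
  refine ⟨⟨⟨fun a b hab => oK_injective (genericPoint X) ?_, fun c => ?_⟩, fun z hz v _ => ?_, ?_⟩,
    oK_injective, ?_⟩
  · rwa [valAt_eta, valAt_eta]
  · obtain ⟨v, hv⟩ := exists_oK (x := genericPoint X) (c := c) ⟨c, algebraMap_eta c⟩
    exact ⟨v, (valAt_eta _ v).symm.trans hv⟩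
  · by_cases h : oK z v = 0
    · exact Or.inl h
    · exact Or.inr (by simpa using (mem_range_iff hz h).mp (oK_mem_range z v))
  · intro z hz c hc
    by_cases h : c = 0
    · exact ⟨0, by rw [map_zero, h]⟩
    rcases hc hz with h' | h'
    · exact absurd h' h
    exact exists_oK ((mem_range_iff hz h).mpr (by simpa using h'))
  · intro x c hc
    refine exists_oK (mem_range_of_codim_one x c fun z hzx hz => ?_)
    by_cases h : c = 0
    · rw [h]; exact zero_mem _
    rcases hc z hzx hz hz with h' | h'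
    · exact absurd h' h
    exact (mem_range_iff hz h).mpr (by simpa using h')

/-- A rank one reflexive module with a section of nonzero generic germ is `O(E)` with the section `1`. -/
theorem exists_emb_section {F : X.Modules} (hF : RefHull.IsRef1 F) (m : Γ(F, ⊤))
    (hm : F.presheaf.germ ⊤ (genericPoint X) trivial m ≠ 0) :
    ∃ (φ : Fnl F) (E : X → ℤ), LocFin E ∧ (∀ z, 0 ≤ E z) ∧ (∀ z, coheight z ≠ 1 → E z = 0) ∧ Emb φ E ∧
      φ.toHom (F.presheaf.germ ⊤ (genericPoint X) trivial m) = 1 := by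
  obtain ⟨φ, hb, h1⟩ := exists_fnl hF.2.2 _ hm
  obtain ⟨E, hE, hE0, hg⟩ := exists_good hF.1 hF.2.2 hb
  refine ⟨φ, E, hE, fun z => ?_, hE0, emb_reflexive hg hE hF.2.1, h1⟩
  by_cases hz : coheight z = 1
  · rcases hg.mem z hz (F.presheaf.germ ⊤ z trivial m) hz with h | h
    · rw [valAt_germ φ z (show z ∈ (⊤ : X.Opens) from trivial), h1] at h
      exact absurd h one_ne_zero
    · rw [valAt_germ φ z (show z ∈ (⊤ : X.Opens) from trivial), h1, ord_one] at h
      omega
  · exact (hE0 z hz).ge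

theorem LocFin.nsmul {E : X → ℤ} (hE : LocFin E) (n : ℕ) : LocFin (fun z => (n : ℤ) * E z) := fun x => by
  obtain ⟨U, hU, hf⟩ := hE x
  exact ⟨U, hU, hf.subset fun z hz => ⟨hz.1, hz.2.1, right_ne_zero_of_mul hz.2.2⟩⟩

theorem genInvertible_ddual {M : X.Modules} {ψ : Fnl M} {D : X → ℤ} (h : Good ψ D) (hD : LocFin D) :
    RefHull.GenInvertible (RefHull.ddual M) := by
  obtain ⟨e⟩ := nonempty_ddualIso h hD
  obtain ⟨U, hU, hinv⟩ := genInvertible_OD hD
  exact ⟨U, hU, TensorMod.isInvertible_of_iso ((Scheme.Modules.restrictFunctor U.ι).mapIso e.symm) hinv⟩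

variable {F : X.Modules} (s : Coh.structureModule X ⟶ F) {φ : Fnl F} {E : X → ℤ}

theorem exists_pow (hF : RefHull.GenInvertible F) (hE : LocFin E) (hφ : Emb φ E)
    (h1 : φ.toHom (F.presheaf.germ ⊤ (genericPoint X) trivial (SecTwist.val s ⊤)) = 1) :
    ∀ n : ℕ, (∃ ψ : Fnl (RefPow.refPow F n), Emb ψ (fun z => (n : ℤ) * E z) ∧
      ψ.toHom (RefPow.sPowGerm s n (genericPoint X)) = 1) ∧ RefHull.GenInvertible (RefPow.refPow F n) := by
  intro n
  induction n with
  | zero =>
    have h0 : (fun z => ((0 : ℕ) : ℤ) * E z) = (0 : X → ℤ) := funext fun z => by simp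
    rw [h0]
    refine ⟨⟨fnlO, emb_structure, ?_⟩, ?_⟩
    · refine (fnlO_germ (X := X) (U := ⊤) trivial (1 : Γ(X, ⊤))).trans ?_
      exact map_one (X.presheaf.germ ⊤ (genericPoint X) trivial).hom
    · obtain ⟨e⟩ := nonempty_structureIso (X := X)
      obtain ⟨U, hU, hinv⟩ := genInvertible_OD (X := X) locFin_zero
      exact ⟨U, hU, TensorMod.isInvertible_of_iso ((Scheme.Modules.restrictFunctor U.ι).mapIso e.symm) hinv⟩
  | succ n ih =>
    match n, ih with
    | 0, _ =>
      have h0 : (fun z => ((0 + 1 : ℕ) : ℤ) * E z) = E := funext fun z => by simp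
      rw [h0]
      refine ⟨⟨φ, hφ, ?_⟩, hF⟩
      simp only [RefPow.sPowGerm]
      rw [RefPow.sPow_one]
      exact h1
    | m + 1, ⟨⟨ψ, hψ, hψ1⟩, hG⟩ =>
      have hsum : (fun z => ((m + 1 : ℕ) : ℤ) * E z) + E = fun z => ((m + 1 + 1 : ℕ) : ℤ) * E z :=
        funext fun z => by rw [Pi.add_apply]; push_cast; ring
      have hg := mulFnl_good hψ.good hφ.good hG hF
      have hL := (hE.nsmul (m + 1)).add hE
      have hE2 := emb_ddual hg hL
      refine ⟨⟨ddualFnl hg hL, hsum ▸ hE2, ?_⟩, genInvertible_ddual hg hL⟩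
      have ht : (⊤ : X.Opens).carrier = Set.univ := rfl
      have e : RefPow.sPowGerm s (m + 1 + 1) (genericPoint X) =
          RefHull.stalkMapₗ (RefPow.toRefTensor (RefPow.refPow F (m + 1)) F) (genericPoint X)
            ((CohB1.tensorMod (RefPow.refPow F (m + 1)) F).presheaf.germ ⊤ (genericPoint X) trivial
              (SecTwist.tmul (RefPow.refPow F (m + 1)) F ⊤ (SecTwist.val (RefPow.sPow s (m + 1)) ⊤)
                (SecTwist.val s ⊤))) := by
        rw [RefHull.stalkMapₗ_germ]
        refine congrArg _ ?_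
        exact RefPow.mulBy_succ_app s m ⊤ _
      rw [e, ← valAt_eta]
      refine (ddualFnl_bidual hg hL (genericPoint X) _).trans ?_
      rw [valAt_mulFnl_tmul, valAt_eta, valAt_eta, h1, mul_one]
      exact hψ1

/-- On the complement of the divisor the powers of the section generate. -/
theorem bijective_sPow {n : ℕ} {ψ : Fnl (RefPow.refPow F n)} (hψ : Emb ψ (fun z => (n : ℤ) * E z))
    (h1 : ψ.toHom (RefPow.sPowGerm s n (genericPoint X)) = 1) {y : X}
    (hy : ∀ z, z ⤳ y → coheight z = 1 → E z = 0) :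
    Function.Bijective (RefHull.stalkMapₗ (RefPow.sPow s n) y) := by
  have hm : ∀ z, valAt ψ z (RefPow.sPowGerm s n z) = 1 := fun z =>
    (valAt_germ ψ z (show z ∈ (⊤ : X.Opens) from trivial) _).trans h1
  have hb : Function.Bijective (genMap (SecTwist.val (RefPow.sPow s n) ⊤) y trivial) := by
    refine ⟨fun a b hab => IsFractionRing.injective (X.presheaf.stalk y) X.functionField ?_, fun v => ?_⟩
    · have := congrArg (valAt ψ y) hab
      simp only [genMap, map_smul] at this
      rwa [Algebra.smul_def, Algebra.smul_def, hm, mul_one, mul_one] at this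
    · obtain ⟨a, ha⟩ := mem_range_of_codim_one y (valAt ψ y v) fun z hzy hz => by
        obtain ⟨Uv, hyv, t, rfl⟩ := TopCat.Presheaf.exists_germ_eq (RefPow.refPow F n).presheaf v
        have hzv : z ∈ Uv := hzy.mem_open Uv.isOpen hyv
        rw [valAt_germ ψ y hyv, ← valAt_germ ψ z hzv]
        by_cases h0 : valAt ψ z ((RefPow.refPow F n).presheaf.germ Uv z hzv t) = 0
        · rw [h0]; exact zero_mem _
        rw [mem_range_iff hz h0]
        rcases hψ.good.mem z hz ((RefPow.refPow F n).presheaf.germ Uv z hzv t) hz with h | h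
        · exact absurd h h0
        · dsimp only at h
          rw [hy z hzy hz, mul_zero, neg_zero] at h
          exact h
      exact ⟨a, hψ.inj y (by
        simp only [genMap]
        rw [map_smul, Algebra.smul_def, hm, mul_one, ha])⟩
  have : y ∈ RefPow.isoLocus (RefPow.sPow s n) := by rw [isoLocus_eq]; exact hb
  exact this

theorem mem_isoLocus_iff (hF : Coh.IsCoh F) (hφ : Emb φ E)
    (h1 : φ.toHom (F.presheaf.germ ⊤ (genericPoint X) trivial (SecTwist.val s ⊤)) = 1) (y : X) :
    y ∈ RefPow.isoLocus s ↔ ∀ z, z ⤳ y → coheight z = 1 → E z = 0 := by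
  rw [isoLocus_eq]
  have hv : valAt φ y (F.presheaf.germ ⊤ y trivial (SecTwist.val s ⊤)) = 1 :=
    (valAt_germ φ y (show y ∈ (⊤ : X.Opens) from trivial) _).trans h1
  change Function.Bijective (genMap (SecTwist.val s ⊤) y trivial) ↔ _
  rw [bijective_genMap_iff hφ.good hF hφ.inj (SecTwist.val s ⊤) (show y ∈ (⊤ : X.Opens) from trivial)
    (by rw [hv]; exact one_ne_zero), hv]
  simp only [ord_one, zero_add]

omit [IsLocallyNoetherian X] [Nrm X] in
theorem isoLocus_empty (hF : RefHull.GenInvertible F)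
    (h0 : F.presheaf.germ ⊤ (genericPoint X) trivial (SecTwist.val s ⊤) = 0)
    (hinj : ∀ y (v : F.presheaf.stalk y), toEta F y v = 0 → v = 0) :
    RefPow.isoLocus s = ∅ := by
  rw [isoLocus_eq]
  refine Set.eq_empty_iff_forall_notMem.mpr fun y hy => ?_
  have hg : F.presheaf.germ ⊤ y trivial (SecTwist.val s ⊤) = 0 :=
    hinj y _ ((toEta_germ F y (show y ∈ (⊤ : X.Opens) from trivial) _).trans h0)
  have := hy.1 (a₁ := 1) (a₂ := 0) (by simp [genMap, hg])
  exact one_ne_zero this

theorem torsionFree_of_ref1 {F : X.Modules} (hF : RefHull.IsRef1 F) (y : X) (v : F.presheaf.stalk y)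
    (h : toEta F y v = 0) : v = 0 := by
  obtain ⟨D, ψ, hD, hg, -⟩ := exists_class hF
  exact valAt_injective_of_iso hg hD hF.2.1 y ((congrArg ψ.toHom h).trans ((map_zero _).trans (map_zero _).symm))

theorem section_eq_zero {F : X.Modules} (hF : RefHull.IsRef1 F) (m : Γ(F, ⊤))
    (h : F.presheaf.germ ⊤ (genericPoint X) trivial m = 0) : m = 0 :=
  TopCat.Presheaf.section_ext ⟨F.presheaf, F.isSheaf⟩ ⊤ m 0 fun y hy => by
    rw [map_zero]
    exact torsionFree_of_ref1 hF y _ ((toEta_germ F y (show y ∈ (⊤ : X.Opens) from trivial) m).trans h)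

end Groth.Agent.RefDiv
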