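import Groth.Agent.RefDiv.Classify
import Groth.Agent.TensorMod.Basic
import Groth.Agent.GenLocus.Tensor

/-!
# The reflexive tensor product of rank one reflexive modules
-/

set_option autoImplicit false

noncomputable section

universe u

open CategoryTheory Limits AlgebraicGeometry TopologicalSpace Order Opposite
open Groth.Agent.QCohBase
open scoped TensorProduct MonoidalCategory

namespace Groth.Agent.RefDiv

variable {X : Scheme.{u}} [IsIntegral X] [IsLocallyNoetherian X] [Nrm X]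
variable {F G : X.Modules} {D E : X → ℤ} {φ : Fnl F} {ψ : Fnl G}

theorem mem_mul (hφ : Good φ D) (hψ : Good ψ E) {U : X.Opens} (m : Γ(F, U)) (n : Γ(G, U)) (z : U) :
    Mem (D + E) z.1 (valAt φ z.1 (F.presheaf.germ U z.1 z.2 m) *
      valAt ψ z.1 (G.presheaf.germ U z.1 z.2 n)) := fun hz => by
  rcases hφ.mem z.1 hz (F.presheaf.germ U z.1 z.2 m) hz with h | h
  · exact Or.inl (by rw [h, zero_mul])
  rcases hψ.mem z.1 hz (G.presheaf.germ U z.1 z.2 n) hz with h' | h'
  · exact Or.inl (by rw [h', mul_zero])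
  by_cases h1 : valAt φ z.1 (F.presheaf.germ U z.1 z.2 m) = 0
  · exact Or.inl (by rw [h1, zero_mul])
  by_cases h2 : valAt ψ z.1 (G.presheaf.germ U z.1 z.2 n) = 0
  · exact Or.inl (by rw [h2, mul_zero])
  refine Or.inr ?_
  rw [Scheme.ord_mul h1 h2, Pi.add_apply]
  omega

/-- The product of two sections. -/
def mulSec (hφ : Good φ D) (hψ : Good ψ E) (U : X.Opens) (m : Γ(F, U)) (n : Γ(G, U)) :
    Γ(OD (D + E), U) :=
  ⟨fun y => valAt φ y.1 (F.presheaf.germ U y.1 y.2 m) * valAt ψ y.1 (G.presheaf.germ U y.1 y.2 n),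
    fun x y => congrArg₂ (· * ·)
      (congrArg φ.toHom ((toEta_germ F _ x.2 m).trans (toEta_germ F _ y.2 m).symm))
      (congrArg ψ.toHom ((toEta_germ G _ x.2 n).trans (toEta_germ G _ y.2 n).symm)),
    fun z => mem_mul hφ hψ m n z⟩

/-- The product of sections, bilinearly. -/
def mulSecₗ (hφ : Good φ D) (hψ : Good ψ E) (U : X.Opens) :
    Γ(F, U) →ₗ[Γ(X, U)] Γ(G, U) →ₗ[Γ(X, U)] Γ(OD (D + E), U) :=
  LinearMap.mk₂ Γ(X, U) (mulSec hφ hψ U)
    (fun a b n => Subtype.ext (funext fun y => by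
      change valAt φ y.1 _ * _ = valAt φ y.1 _ * _ + valAt φ y.1 _ * _
      rw [map_add, map_add, add_mul]))
    (fun r a n => Subtype.ext (funext fun y => by
      change valAt φ y.1 _ * _ = X.presheaf.germ U y.1 y.2 r • (valAt φ y.1 _ * _)
      rw [Mero.germ_smul, map_smul, smul_mul_assoc]))
    (fun a m n => Subtype.ext (funext fun y => by
      change _ * valAt ψ y.1 _ = _ * valAt ψ y.1 _ + _ * valAt ψ y.1 _
      rw [map_add, map_add, mul_add]))
    (fun r a n => Subtype.ext (funext fun y => by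
      change _ * valAt ψ y.1 _ = X.presheaf.germ U y.1 y.2 r • (_ * valAt ψ y.1 _)
      rw [Mero.germ_smul, map_smul, mul_smul_comm]))

/-- The multiplication map on presheaves. -/
def mulPre (hφ : Good φ D) (hψ : Good ψ E) :
    CohB1.tensorPre F G ⟶ (TensorMod.incl X).obj (OD (D + E)) where
  app U := ModuleCat.ofHom (R := Γ(X, U.unop))
    (X := Γ(F, U.unop) ⊗[Γ(X, U.unop)] Γ(G, U.unop)) (Y := Γ(OD (D + E), U.unop))
    (TensorProduct.lift (mulSecₗ hφ hψ U.unop))
  naturality {U V} i := by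
    refine ModuleCat.hom_ext (TensorProduct.ext' fun m n => Subtype.ext (funext fun y => ?_))
    exact congrArg₂ (· * ·)
      (congrArg (valAt φ y.1) (TopCat.Presheaf.germ_res_apply' F.presheaf i y.1 y.2 m))
      (congrArg (valAt ψ y.1) (TopCat.Presheaf.germ_res_apply' G.presheaf i y.1 y.2 n))

/-- The multiplication map `F ⊗ G → O(D + E)`. -/
def mulHom (hφ : Good φ D) (hψ : Good ψ E) : CohB1.tensorMod F G ⟶ OD (D + E) :=
  ((TensorMod.shAdj X).homEquiv (CohB1.tensorPre F G) (OD (D + E))).symm (mulPre hφ hψ)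

theorem mulHom_tmul (hφ : Good φ D) (hψ : Good ψ E) (U : X.Opens) (m : Γ(F, U)) (n : Γ(G, U)) :
    (mulHom hφ hψ).app U (SecTwist.tmul F G U m n) = mulSec hφ hψ U m n := by
  have e := ((TensorMod.shAdj X).homEquiv (CohB1.tensorPre F G) (OD (D + E))).apply_symm_apply
    (mulPre hφ hψ)
  rw [Adjunction.homEquiv_unit] at e
  exact congrArg (fun g => (g.app (op U)).hom (m ⊗ₜ[Γ(X, U)] n)) e

/-- The functional on `F ⊗ G`. -/
def mulFnl (hφ : Good φ D) (hψ : Good ψ E) : Fnl (CohB1.tensorMod F G) where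
  toHom := (fnlOD (D + E)).toHom.comp
    (RefHull.stalkMapₗ (mulHom hφ hψ) (genericPoint X)).toAddMonoidHom
  map_smul a v := by
    change (fnlOD (D + E)).toHom (RefHull.stalkMapₗ (mulHom hφ hψ) (genericPoint X) (a • v)) = _
    rw [map_smul, (fnlOD (D + E)).map_smul]
    rfl

theorem valAt_mulFnl (hφ : Good φ D) (hψ : Good ψ E) (x : X)
    (v : (CohB1.tensorMod F G).presheaf.stalk x) :
    valAt (mulFnl hφ hψ) x v = evK (D + E) x (RefHull.stalkMapₗ (mulHom hφ hψ) x v) :=
  (evK_stalkMap_eta (D + E) (mulHom hφ hψ) x v).symm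

theorem valAt_mulFnl_tmul (hφ : Good φ D) (hψ : Good ψ E) {U : X.Opens} (x : X) (hx : x ∈ U)
    (m : Γ(F, U)) (n : Γ(G, U)) :
    valAt (mulFnl hφ hψ) x ((CohB1.tensorMod F G).presheaf.germ U x hx (SecTwist.tmul F G U m n)) =
      valAt φ x (F.presheaf.germ U x hx m) * valAt ψ x (G.presheaf.germ U x hx n) := by
  rw [valAt_mulFnl, RefHull.stalkMapₗ_germ, evK_germ]
  exact congrArg (fun t : Γ(OD (D + E), U) => t.1 ⟨x, hx⟩) (mulHom_tmul hφ hψ U m n)

theorem mulFnl_good (hφ : Good φ D) (hψ : Good ψ E) (hF : RefHull.GenInvertible F)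
    (hG : RefHull.GenInvertible G) : Good (mulFnl hφ hψ) (D + E) where
  bij := by
    obtain ⟨W₁, h₁, e₁, he₁⟩ := exists_frame_eta hF
    obtain ⟨W₂, h₂, e₂, he₂⟩ := exists_frame_eta hG
    let W := W₁ ⊓ W₂
    have hW : genericPoint X ∈ W := ⟨h₁, h₂⟩
    have hf₁ := he₁.res (inf_le_left : W ≤ W₁)
    have hf₂ := he₂.res (inf_le_right : W ≤ W₂)
    have hb := frame_eta_bijective hW (hf₁.tmul hf₂)
    let τ := (CohB1.tensorMod F G).presheaf.germ W (genericPoint X) hW
      (SecTwist.tmul F G W (mres F inf_le_left e₁) (mres G inf_le_right e₂))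
    have hne : ∀ {M : X.Modules} {χ : Fnl M}, Function.Bijective χ.toHom → ∀ {V : X.Opens} {e : Γ(M, V)},
        GenLocus.IsFrame M e → ∀ hV : genericPoint X ∈ V,
          χ.toHom (M.presheaf.germ V (genericPoint X) hV e) ≠ 0 := by
      intro M χ hχ V e he hV h
      have h0 : M.presheaf.germ V (genericPoint X) hV e = 0 := hχ.1 (h.trans (map_zero _).symm)
      exact one_ne_zero ((frame_eta_bijective hV he).1 (a₁ := 1) (a₂ := 0) (by simp [h0]))
    have hτ : (mulFnl hφ hψ).toHom τ ≠ 0 := by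
      rw [← valAt_eta, valAt_mulFnl_tmul, valAt_eta, valAt_eta]
      exact mul_ne_zero (hne hφ.bij hf₁ hW) (hne hψ.bij hf₂ hW)
    refine ⟨fun a b hab => ?_, fun c => ?_⟩
    · obtain ⟨a', rfl⟩ := hb.2 a
      obtain ⟨b', rfl⟩ := hb.2 b
      simp only [(mulFnl hφ hψ).map_smul] at hab
      have hab' : (a' : X.functionField) = (b' : X.functionField) := mul_right_cancel₀ hτ hab
      simp only [show a' = b' from hab']
    · let a : X.presheaf.stalk (genericPoint X) := c / (mulFnl hφ hψ).toHom τ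
      refine ⟨a • τ, ?_⟩
      rw [(mulFnl hφ hψ).map_smul]
      exact div_mul_cancel₀ c hτ
  mem := fun z _ v => by rw [valAt_mulFnl]; exact mem_of_evK (D + E) z _ specializes_rfl
  surj := fun z hz c hc => by
    by_cases hc0 : c = 0
    · exact ⟨0, by rw [map_zero, hc0]⟩
    obtain ⟨b, hb, hbo⟩ := exists_ord_eq z hz (-D z)
    obtain ⟨v, hv⟩ := hφ.surj z hz b fun _ => Or.inr hbo.ge
    obtain ⟨b', hb', hbo'⟩ := exists_ord_eq z hz (-E z)
    obtain ⟨w, hw⟩ := hψ.surj z hz b' fun _ => Or.inr hbo'.ge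
    obtain ⟨U₁, h₁, m, rfl⟩ := TopCat.Presheaf.exists_germ_eq F.presheaf v
    obtain ⟨U₂, h₂, n, rfl⟩ := TopCat.Presheaf.exists_germ_eq G.presheaf w
    have hord : 0 ≤ Scheme.ord (c / (b * b')) z := by
      rcases hc hz with h | h
      · exact absurd h hc0
      rw [div_eq_mul_inv, Scheme.ord_mul hc0 (inv_ne_zero (mul_ne_zero hb hb')),
        ord_inv z (mul_ne_zero hb hb'), Scheme.ord_mul hb hb', hbo, hbo']
      rw [Pi.add_apply] at h
      omega
    obtain ⟨a, ha⟩ := (mem_range_iff hz (div_ne_zero hc0 (mul_ne_zero hb hb'))).mpr hord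
    refine ⟨a • (CohB1.tensorMod F G).presheaf.germ (U₁ ⊓ U₂) z ⟨h₁, h₂⟩ (SecTwist.tmul F G (U₁ ⊓ U₂)
      (mres F inf_le_left m) (mres G inf_le_right n)), ?_⟩
    rw [map_smul, valAt_mulFnl_tmul, Algebra.smul_def, ha]
    rw [mres, mres, TopCat.Presheaf.germ_res_apply, TopCat.Presheaf.germ_res_apply, hv, hw]
    exact div_mul_cancel₀ c (mul_ne_zero hb hb')

/-- The reflexive tensor product of divisorial modules. -/
theorem nonempty_refTensorIso (hφ : Good φ D) (hψ : Good ψ E) (hD : LocFin D) (hE : LocFin E)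
    (hF : RefHull.GenInvertible F) (hG : RefHull.GenInvertible G) :
    Nonempty (RefHull.ddual (CohB1.tensorMod F G) ≅ OD (D + E)) :=
  nonempty_ddualIso (mulFnl_good hφ hψ hF hG) (hD.add hE)

end Groth.Agent.RefDiv
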